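import Cfsg.Agent.SB.C2.SolvV
import Cfsg.Agent.DS.Cl.ExtG

/-!
# Groups of symplectic type with a solvable automorphism group (helper56)
-/

set_option autoImplicit false

namespace Cfsg.Agent.SB.C2

open Cfsg Cfsg.Agent.DS.Cl.Ext Cfsg.Agent.LieClassical
open scoped commutatorElement

variable {H : Type} [Group H] [Finite H] {U : Subgroup H} {r : ℕ}

omit [Finite H] in
theorem index_eq {V : Type} [AddCommGroup V] {π : H → V} (hπ : Pr U π) : U.index = Nat.card V := by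
  let f : H →* Multiplicative V := MonoidHom.mk' (fun x => Multiplicative.ofAdd (π x)) fun x y => by
    rw [hπ.mul, ofAdd_add]
  have h1 : f.ker = U := Subgroup.ext fun x => hπ.ker x
  rw [← h1, Subgroup.index_ker, MonoidHom.range_eq_top_of_surjective f hπ.surj, Subgroup.card_top]
  rfl

theorem pow_of_nd (h : Sty U r) (hQ : ¬ (r = 2 ∧ ¬ 4 ∣ Nat.card U))
    (hnd : ∀ K : Subgroup H, (∀ x, x ∈ K ↔ x ^ Nat.card U = 1) → ∀ x ∈ K, (∀ y ∈ K, x * y = y * x) → x ∈ U) (x : H) :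
    ∃ c ∈ U, x ^ r = c ^ r := by
  have : Fact r.Prime := ⟨h.prime⟩
  obtain ⟨m, hm⟩ : r ∣ Nat.card U := by
    rw [← h.card_W]
    exact Subgroup.card_dvd_of_le fun c hc => hc.1
  have hU : ∀ c ∈ U, c ^ Nat.card U = 1 := fun c hc => congrArg Subtype.val (pow_card_eq_one' (x := (⟨c, hc⟩ : U)))
  have h1 : ∀ x, x ^ Nat.card U ∈ h.W := fun x =>
    ⟨by rw [hm, pow_mul]; exact U.pow_mem (h.pow x) m, by rw [← pow_mul, mul_comm, pow_mul, hU _ (h.pow x)]⟩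
  have h2 : ∀ x y : H, (x * y) ^ Nat.card U = x ^ Nat.card U * y ^ Nat.card U := by
    intro x y
    obtain ⟨c, hc, e⟩ := h.mul_pow_mod hQ x y
    rw [hm, pow_mul, pow_mul, pow_mul, e, h.mul_pow_of_mem _ (U.pow_mem hc r), h.mul_pow_of_mem _ (h.pow y), ← pow_mul c,
      ← hm, hU c hc, mul_one]
  obtain ⟨V, _, _, _, π, hπ⟩ := h.exists_pr
  obtain ⟨lg, hl, hl'⟩ := h.exists_log
  obtain ⟨B, hB⟩ := h.exists_form hπ hl
  have h0 := h.lg_one hl
  choose s hs using hπ.surj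
  have h3 : ∀ x y, π x = π y → x ^ Nat.card U = y ^ Nat.card U := by
    intro x y e
    obtain ⟨c, hc, rfl⟩ := hπ.exists_of_eq e
    rw [h2, hU c hc, mul_one]
  let f : V →ₗ[ZMod r] ZMod r := (AddMonoidHom.mk' (fun v => lg (s v ^ Nat.card U)) fun v w => by
    rw [← hl _ (h1 _) _ (h1 _), ← h2, h3 (s (v + w)) (s v * s w) (by rw [hπ.mul, hs, hs, hs])]).toZModLinearMap r
  have hf : ∀ x, f (π x) = lg (x ^ Nat.card U) := fun x => congrArg lg (h3 _ _ (hs _))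
  have hA : ∀ v, B v v = 0 := fun v => by rw [← hs v, hB, commutatorElement_self, h0]
  have hnd' : B.Nondegenerate := (LinearMap.IsAlt.isRefl hA).nondegenerate_iff_separatingLeft.2 (h.form_nd hπ hl hl' hB)
  obtain ⟨v, hv⟩ := (B.toDual hnd').surjective f
  have h4 : ∀ y, lg ⁅s v, y⁆ = lg (y ^ Nat.card U) := fun y => by rw [← hB, hs, ← hf, ← hv]; rfl
  have h5 : s v ∈ U := hnd (MonoidHom.mk' (fun x => x ^ Nat.card U) h2).ker (fun _ => Iff.rfl) _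
    (hl' _ (h1 _) _ h.W.one_mem (by rw [← h4, commutatorElement_self])) fun y hy =>
      commutatorElement_eq_one_iff_mul_comm.1 (hl' _ (h.comm_mem_W _ _) _ h.W.one_mem (by
        rw [h4, show y ^ Nat.card U = 1 from hy]))
  have h6 : x ^ Nat.card U = 1 := hl' _ (h1 _) _ h.W.one_mem (by rw [← h4, h.comm_eq_one_left h5])
  have := h.cyc
  obtain ⟨g, hg⟩ := IsCyclic.exists_monoid_generator (α := U)
  obtain ⟨a, ha⟩ := hg ⟨_, h.pow x⟩
  have h7 : orderOf g = Nat.card U := orderOf_eq_card_of_forall_mem_powers hg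
  have h8 : (g : H) ^ a = x ^ r := congrArg Subtype.val ha
  have h9 : Nat.card U ∣ a * m := by
    rw [← h7]
    refine orderOf_dvd_of_pow_eq_one (Subtype.ext ?_)
    rw [Subgroup.coe_pow, pow_mul, h8, ← pow_mul, ← hm, h6]
    rfl
  have hm0 : 0 < m := Nat.pos_of_ne_zero fun e => Nat.card_pos.ne' (by rw [hm, e, mul_zero])
  rw [hm] at h9
  obtain ⟨j, rfl⟩ := Nat.dvd_of_mul_dvd_mul_right hm0 h9
  exact ⟨g ^ j, U.pow_mem g.2 j, by rw [← h8, ← pow_mul, mul_comm]⟩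

/-- the symplectic case -/
theorem solv_sty_sp (h : Sty U r) (hT : ∀ x, ∃ c ∈ U, x ^ r = c ^ r) (hs : Group.IsSolvable (DS.Cl.Ext.Fix U)) :
    U.index = r ^ 2 ∧ r ≤ 3 := by
  have : Fact r.Prime := ⟨h.prime⟩
  obtain ⟨V, _, _, _, π, hπ⟩ := h.exists_pr
  obtain ⟨lg, hl, hl'⟩ := h.exists_log
  obtain ⟨B, hB⟩ := h.exists_form hπ hl
  obtain ⟨ρ, hρ⟩ := Sty.exists_rho (r := r) hπ
  have hr : (DS.Cl.Vec.Isom (ZMod r) fun v w => B v w) ≤ ρ.range := by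
    intro α hα
    obtain ⟨φ, hφ, hφ'⟩ := h.exists_lift hπ α.toAddEquiv (fun x y x' y' hx hy => by
      refine hl' _ (h.comm_mem_W _ _) _ (h.comm_mem_W _ _) ?_
      rw [← hB, ← hB, hx, hy]
      exact hα _ _) (fun x x' _ => by
      obtain ⟨c, hc, e⟩ := hT x
      obtain ⟨c', hc', e'⟩ := hT x'
      refine ⟨c⁻¹ * c', U.mul_mem (U.inv_mem hc) hc', ?_⟩
      rw [e, e', h.mul_pow_of_mem _ hc', inv_pow, mul_inv_cancel_left])
    refine ⟨⟨φ, hφ⟩, ?_⟩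
    ext v
    obtain ⟨x, rfl⟩ := hπ.surj v
    rw [hρ]
    exact hφ' x
  have h1 : Group.IsSolvable ρ.range := Group.isSolvable_of_surjective ρ.rangeRestrict_surjective
  have h2 := solv_alt B (fun v => by
    obtain ⟨x, rfl⟩ := hπ.surj v
    rw [hB, commutatorElement_self, h.lg_one hl]) (h.form_nd hπ hl hl' hB)
    (Group.isSolvable_of_isSolvable_injective (f := Subgroup.inclusion hr) (Subgroup.inclusion_injective _))
  rw [index_eq hπ, Module.natCard_eq_pow_finrank (K := ZMod r), Nat.card_zmod]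
  rw [ZMod.card] at h2
  rcases h2 with h2 | ⟨h2, h3⟩
  · obtain ⟨x, hx⟩ := h.ne
    have : Subsingleton V := Module.finrank_zero_iff.1 h2
    exact absurd ((hπ.ker x).1 (Subsingleton.elim _ _)) hx
  · exact ⟨by rw [h2], h3⟩

omit [Finite H] in
/-- non-singular elements -/
def NS (U : Subgroup H) (x : H) : Prop := ∀ c ∈ U, (x * c) ^ 2 ≠ 1

omit [Finite H] in
/-- one of the two quaternion factors -/
structure Pl (U P P' : Subgroup H) : Prop where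
  le : U ≤ P
  comm : ∀ x ∈ P, ∀ y ∈ P', x * y = y * x
  prod : ∀ x, ∃ y ∈ P, y⁻¹ * x ∈ P'
  ns : ∀ x ∈ P, x ∉ U → NS U x
  mem : ∀ x, NS U x → x ∈ P ∨ x ∈ P'
  card : U.relIndex P = 4
  two : ∀ x ∈ P, ∃ y ∈ P, y ∉ U ∧ y⁻¹ * x ∉ U
  cm : ∀ x ∈ P, ∀ y ∈ P, x ∉ U → y ∉ U → x * y = y * x → x⁻¹ * y ∈ U

/-- the first plane -/
def pl₁ : AddSubgroup (Fin 2 ⊕ Fin 2 → ZMod 2) where
  carrier := {v | v (.inl 1) = v (.inr 1) ∧ v (.inl 0) + v (.inr 0) = v (.inl 1)}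
  add_mem' := fun {a b} ha hb => ⟨by simp [ha.1, hb.1], by simp only [Pi.add_apply, ← ha.2, ← hb.2]; ring⟩
  zero_mem' := ⟨rfl, rfl⟩
  neg_mem' := fun {a} ha => ⟨by simp [ha.1], by simp only [Pi.neg_apply, ← ha.2]; ring⟩

/-- the second plane -/
def pl₂ : AddSubgroup (Fin 2 ⊕ Fin 2 → ZMod 2) where
  carrier := {v | v (.inl 0) = v (.inr 0) ∧ v (.inl 1) + v (.inr 1) = v (.inl 0)}
  add_mem' := fun {a b} ha hb => ⟨by simp [ha.1, hb.1], by simp only [Pi.add_apply, ← ha.2, ← hb.2]; ring⟩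
  zero_mem' := ⟨rfl, rfl⟩
  neg_mem' := fun {a} ha => ⟨by simp [ha.1], by simp only [Pi.neg_apply, ← ha.2]; ring⟩

/-- the properties of the planes -/
def PlV (p p' : (Fin 2 ⊕ Fin 2 → ZMod 2) → Prop) [DecidablePred p] : Prop :=
  (∀ v, p v → ∀ w, p' w → quadFormPlus 2 _ (v + w) - quadFormPlus 2 _ v - quadFormPlus 2 _ w = 0) ∧
  (∀ v, ∃ w, p w ∧ p' (-w + v)) ∧ (∀ v, p v → v ≠ 0 → quadFormPlus 2 _ v ≠ 0) ∧
  (∀ v, quadFormPlus 2 _ v ≠ 0 → p v ∨ p' v) ∧ Fintype.card {v // p v} = 4 ∧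
  (∀ v, p v → ∃ w, p w ∧ w ≠ 0 ∧ -w + v ≠ 0) ∧
  ∀ v, p v → ∀ w, p w → v ≠ 0 → w ≠ 0 → quadFormPlus 2 _ (v + w) - quadFormPlus 2 _ v - quadFormPlus 2 _ w = 0 →
    -v + w = 0

set_option synthInstance.maxSize 1000 in
set_option synthInstance.maxHeartbeats 200000 in
theorem plV₁ : PlV (fun v => v (.inl 1) = v (.inr 1) ∧ v (.inl 0) + v (.inr 0) = v (.inl 1))
    fun v => v (.inl 0) = v (.inr 0) ∧ v (.inl 1) + v (.inr 1) = v (.inl 0) := by
  unfold PlV quadFormPlus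
  refine ⟨?_, ?_, ?_, ?_, ?_, ?_, ?_⟩ <;> beta_reduce <;> decide +kernel

set_option synthInstance.maxSize 1000 in
set_option synthInstance.maxHeartbeats 200000 in
theorem plV₂ : PlV (fun v => v (.inl 0) = v (.inr 0) ∧ v (.inl 1) + v (.inr 1) = v (.inl 0))
    fun v => v (.inl 1) = v (.inr 1) ∧ v (.inl 0) + v (.inr 0) = v (.inl 1) := by
  unfold PlV quadFormPlus
  refine ⟨?_, ?_, ?_, ?_, ?_, ?_, ?_⟩ <;> beta_reduce <;> decide +kernel

/-- the orthogonal case -/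
theorem solv_sty_o (h : Sty U 2) (h4 : ¬ 4 ∣ Nat.card U) (hsv : Group.IsSolvable (DS.Cl.Ext.Fix U)) :
    U.index ≤ 4 ∨ (U.index = 16 ∧ (∀ x, ∃ c ∈ U, ((x * c) ^ 2) ^ 2 = 1) ∧ ∃ P P', Pl U P P' ∧ Pl U P' P) := by
  obtain ⟨V, _, _, _, π, hπ⟩ := h.exists_pr
  obtain ⟨lg, hl, hl'⟩ := h.exists_log
  obtain ⟨B, hB⟩ := h.exists_form hπ hl
  obtain ⟨ρ, hρ⟩ := Sty.exists_rho (r := 2) hπ
  obtain ⟨m, hm⟩ : 2 ∣ Nat.card U := by
    rw [← h.card_W]
    exact Subgroup.card_dvd_of_le fun c hc => hc.1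
  obtain ⟨j, hj⟩ : Odd m := by
    rw [← Nat.not_even_iff_odd]
    rintro ⟨j, rfl⟩
    exact h4 ⟨j, by omega⟩
  have hW : ∀ c ∈ U, c ^ m ∈ h.W := by
    intro c hc
    refine ⟨U.pow_mem hc m, ?_⟩
    rw [← pow_mul, mul_comm, ← hm]
    exact congrArg Subtype.val (pow_card_eq_one' (x := (⟨c, hc⟩ : U)))
  have hWm : ∀ w ∈ h.W, w ^ m = w := by
    intro w hw
    rw [hj, pow_succ, pow_mul, hw.2, one_pow, one_mul]
  have hq1 : ∀ x y, π x = π y → (x ^ 2) ^ m = (y ^ 2) ^ m := by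
    intro x y hxy
    obtain ⟨c, hc, rfl⟩ := hπ.exists_of_eq hxy
    rw [h.mul_pow_of_mem _ hc, h.mul_pow_of_mem _ (U.pow_mem hc 2), ← pow_mul c, mul_comm 2, pow_mul c, (hW c hc).2,
      mul_one]
  have hq2 : ∀ x y, lg (((x * y) ^ 2) ^ m) = lg ((x ^ 2) ^ m) + lg ((y ^ 2) ^ m) + lg ⁅y, x⁆ := by
    intro x y
    rw [h.mul_pow, Nat.choose_self, pow_one, h.mul_pow_of_mem _ (h.comm y x), h.mul_pow_of_mem _ (h.pow y),
      hWm _ (h.comm_mem_W y x), hl _ (h.W.mul_mem (hW _ (h.pow x)) (hW _ (h.pow y))) _ (h.comm_mem_W y x),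
      hl _ (hW _ (h.pow x)) _ (hW _ (h.pow y))]
  choose s hs using hπ.surj
  have hs0 : lg ((s 0 ^ 2) ^ m) = 0 := by
    rw [hq1 (s 0) 1 (by rw [hs, hπ.one]), one_pow, one_pow, h.lg_one hl]
  let Q : QuadraticForm (ZMod 2) V :=
    { toFun := fun v => lg ((s v ^ 2) ^ m)
      toFun_smul := fun a v => by
        have ha : a = 0 ∨ a = 1 := by revert a; decide
        rcases ha with rfl | rfl
        · rw [zero_smul, hs0, zero_mul, zero_smul]
        · rw [one_smul, one_mul, one_smul]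
      exists_companion' := ⟨B.flip, fun v w => by
        rw [hq1 (s (v + w)) (s v * s w) (by rw [hπ.mul, hs, hs, hs]), hq2, ← hB, hs, hs]
        rfl⟩ }
  have hQ : ∀ x, Q (π x) = lg ((x ^ 2) ^ m) := fun x => congrArg lg (hq1 _ _ (hs _))
  have hpol : ∀ x y, QuadraticMap.polar Q (π x) (π y) = lg ⁅y, x⁆ := by
    intro x y
    rw [QuadraticMap.polar, ← hπ.mul, hQ, hQ, hQ, hq2]
    ring
  have hr : OrthCore.O Q ≤ ρ.range := by
    intro α hα
    obtain ⟨φ, hφ, hφ'⟩ := h.exists_lift hπ α.toAddEquiv (fun x y x' y' hx hy => by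
      refine hl' _ (h.comm_mem_W _ _) _ (h.comm_mem_W _ _) ?_
      rw [← hpol, ← hpol, hx, hy]
      exact OrthCore.polar_map hα _ _) (fun x x' hx => by
      have e : (x' ^ 2) ^ m = (x ^ 2) ^ m := by
        refine hl' _ (hW _ (h.pow _)) _ (hW _ (h.pow _)) ?_
        rw [← hQ, ← hQ, hx]
        exact hα _
      have hd : (x ^ 2)⁻¹ * x' ^ 2 ∈ U := U.mul_mem (U.inv_mem (h.pow x)) (h.pow x')
      have e2 : ((x ^ 2)⁻¹ * x' ^ 2) ^ m = 1 := by
        rw [h.mul_pow_of_mem _ (h.pow x'), inv_pow, e, inv_mul_cancel]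
      refine ⟨((x ^ 2)⁻¹ * x' ^ 2) ^ (j + 1), U.pow_mem hd _, ?_⟩
      rw [← pow_mul, show (j + 1) * 2 = m + 1 by omega, pow_succ _ m, e2, one_mul, mul_inv_cancel_left])
    refine ⟨⟨φ, hφ⟩, ?_⟩
    ext v
    obtain ⟨x, rfl⟩ := hπ.surj v
    rw [hρ]
    exact hφ' x
  have hcm : ∀ x y, QuadraticMap.polar Q (π x) (π y) = 0 ↔ x * y = y * x := fun x y => by
    rw [hpol, eq_comm (a := x * y), ← commutatorElement_eq_one_iff_mul_comm]
    exact ⟨fun e => hl' _ (h.comm_mem_W y x) _ h.W.one_mem (e.trans (h.lg_one hl).symm), fun e => by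
      rw [e, h.lg_one hl]⟩
  have h1 : Group.IsSolvable ρ.range := Group.isSolvable_of_surjective ρ.rangeRestrict_surjective
  have h2 := solv_O Q (fun v hv => by
    obtain ⟨x, rfl⟩ := hπ.surj v
    exact (hπ.ker x).2 (h.nd x fun y => (hcm x y).1 (hv _)))
    (Group.isSolvable_of_isSolvable_injective (f := Subgroup.inclusion hr) (Subgroup.inclusion_injective _))
  rw [index_eq hπ, Module.natCard_eq_pow_finrank (K := ZMod 2), Nat.card_zmod]
  rw [ZMod.card] at h2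
  rcases h2 with h2 | ⟨-, h2⟩ | ⟨h2, -, g, hg⟩
  · exact Or.inl (Nat.pow_le_pow_right (n := 2) two_pos h2)
  · omega
  have h5 : ∀ x, (x * (x ^ 2) ^ j) ^ 2 = (x ^ 2) ^ m := fun x => by
    rw [h.mul_pow_of_mem _ (U.pow_mem (h.pow x) j), hj, ← pow_mul (x ^ 2), mul_comm j, pow_succ' (x ^ 2)]
  have hns : ∀ x, NS U x ↔ quadFormPlus 2 _ (g (π x)) ≠ 0 := by
    intro x
    rw [← hg]
    refine ⟨fun h6 e => h6 _ (U.pow_mem (h.pow x) j) ?_, fun h6 c hc e => h6 ?_⟩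
    · rw [h5]
      exact hl' _ (hW _ (h.pow x)) _ h.W.one_mem (by rw [← hQ, e, h.lg_one hl])
    · rw [← hπ.mul_mem x hc, hQ, e, one_pow, h.lg_one hl]
  let f : H →* Multiplicative (Fin 2 ⊕ Fin 2 → ZMod 2) := MonoidHom.mk' (fun x => Multiplicative.ofAdd (g (π x)))
    fun x y => by rw [hπ.mul, map_add, ofAdd_add]
  have hf : Function.Surjective f := g.surjective.comp hπ.surj
  have h0 : ∀ x, g (π x) = 0 ↔ x ∈ U := fun x => by rw [g.map_eq_zero_iff, hπ.ker]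
  have hfk : f.ker = U := Subgroup.ext h0
  have h6 : ∀ x y, g (π (x⁻¹ * y)) = -g (π x) + g (π y) := fun x y => by rw [hπ.mul, hπ.inv, map_add, map_neg]
  have h7 : ∀ x y, quadFormPlus 2 _ (g (π x) + g (π y)) - quadFormPlus 2 _ (g (π x)) - quadFormPlus 2 _ (g (π y)) = 0 ↔
      x * y = y * x := fun x y => by rw [← map_add, ← hg, ← hg, ← hg, ← hcm]; rfl
  have key : ∀ (p p' : AddSubgroup (Fin 2 ⊕ Fin 2 → ZMod 2)) [DecidablePred (· ∈ p)], PlV (· ∈ p) (· ∈ p') →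
      Pl U (p.toSubgroup.comap f) (p'.toSubgroup.comap f) := by
    rintro p p' _ ⟨a1, a2, a3, a4, a5, a6, a7⟩
    refine ⟨fun x hx => ?_, fun x hx y hy => (h7 x y).1 (a1 _ hx _ hy), fun x => ?_,
      fun x hx hx' => (hns x).2 (a3 _ hx (mt (h0 x).1 hx')), fun x hx => a4 _ ((hns x).1 hx), ?_, fun x hx => ?_,
      fun x hx y hy hx' hy' e => (h0 _).1 ?_⟩
    · show g (π x) ∈ p
      rw [(h0 x).2 hx]
      exact zero_mem _
    · obtain ⟨w, h8, h9⟩ := a2 (g (π x))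
      obtain ⟨y, rfl⟩ := (g.surjective.comp hπ.surj) w
      exact ⟨y, h8, show g (π _) ∈ p' by rw [h6]; exact h9⟩
    · rw [← hfk, Subgroup.relIndex_ker, Subgroup.map_comap_eq_self_of_surjective hf, ← a5, ← Nat.card_eq_fintype_card]
      rfl
    · obtain ⟨w, h8, h9, h10⟩ := a6 _ hx
      obtain ⟨y, rfl⟩ := (g.surjective.comp hπ.surj) w
      exact ⟨y, h8, mt (h0 y).2 h9, mt (h0 _).2 (by rw [h6]; exact h10)⟩
    · rw [h6]
      exact a7 _ hx _ hy (mt (h0 x).1 hx') (mt (h0 y).1 hy') ((h7 x y).2 e)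
  refine Or.inr ⟨by rw [h2]; rfl, fun x => ⟨_, U.pow_mem (h.pow x) j, ?_⟩, _, _,
    @key pl₁ pl₂ (fun _ => instDecidableAnd) plV₁, @key pl₂ pl₁ (fun _ => instDecidableAnd) plV₂⟩
  rw [h5]
  exact (hW _ (h.pow x)).2

end Cfsg.Agent.SB.C2
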