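import Cfsg.Agent.SB.C2.ExtA
import Cfsg.Agent.SB.C2.Sty
import Cfsg.Agent.DS.Cl.Ext

/-!
# Invariant abelian subgroups with non-commuting lifts, II (helper56)
-/

set_option autoImplicit false

namespace Cfsg.Agent.SB.C2

open Cfsg Cfsg.Agent.DS.Cl Cfsg.Agent.DS.Cl.Ext
open scoped commutatorElement

section grp

variable {H : Type} [Group H] {U P P' : Subgroup H} (h1 : Pl U P P') (h2 : Pl U P' P)
include h1 h2

theorem Pl.map_le (φ : MulAut H) (hφ : ∀ x, φ x ∈ U ↔ x ∈ U) : (∀ x ∈ P, φ x ∈ P) ∨ ∀ x ∈ P, φ x ∈ P' := by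
  by_contra hcon
  push Not at hcon
  obtain ⟨⟨x, hx, h3⟩, y, hy, h4⟩ := hcon
  have h5 : ∀ x, NS U x → NS U (φ x) := fun x hx c hc e => by
    obtain ⟨c, rfl⟩ := φ.surjective c
    refine hx c ((hφ c).1 hc) (φ.injective ?_)
    rw [map_pow, map_mul, e, map_one]
  have h6 : x ∉ U := fun e => h3 (h1.le ((hφ x).2 e))
  have h7 : y ∉ U := fun e => h4 (h2.le ((hφ y).2 e))
  have h8 := (h1.mem _ (h5 x (h1.ns x hx h6))).resolve_left h3
  have h9 := (h1.mem _ (h5 y (h1.ns y hy h7))).resolve_right h4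
  have h10 := h1.cm x hx y hy h6 h7 (φ.injective (by rw [map_mul, map_mul, h1.comm _ h9 _ h8]))
  have h11 := mul_mem h8 (h2.le ((hφ _).2 h10))
  rw [← map_mul, mul_inv_cancel_left] at h11
  exact h4 h11

theorem Pl.perm (φ : MulAut H) (hφ : ∀ x, φ x ∈ U ↔ x ∈ U) : (∀ x ∈ P', φ x ∈ P') ∨ ∀ x ∈ P, φ x ∈ P' := by
  refine (h1.map_le h2 φ hφ).elim (fun h3 => (h2.map_le h1 φ hφ).elim Or.inl fun h4 => ?_) Or.inr
  obtain ⟨y, hy, h5, -⟩ := h2.two 1 (one_mem _)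
  obtain ⟨x, hx, h6, h7⟩ := h2.two y hy
  refine absurd (h2.cm x hx y hy h6 h5 (h1.comm x ?_ y hy)) h7
  obtain ⟨x, rfl⟩ := φ.surjective x
  obtain ⟨z, h8, h9⟩ := h1.prod x
  rw [← mul_inv_cancel_left z x, map_mul]
  exact mul_mem (h3 z h8) (h4 _ h9)

end grp

variable {A : Type} [Ring A] [StarRing A] {F : FR A} {S Y : Subgroup (RingAut A)}

variable (F Y) in
/-- the map to the automorphism group -/
def io : Nh F Y →* RingAut A := (cj A).comp (Nh F Y).subtype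

theorem io_ker : (io F Y).ker = Uh F Y := Subgroup.ext fun _ => DS.Cl.cj_eq_one_iff

theorem io_range (hY : Y ≤ F.PI) : (io F Y).range = Y := by
  refine le_antisymm (by rintro _ ⟨u, rfl⟩; exact u.2.1) fun y hy => ?_
  obtain ⟨u, hu, rfl⟩ := hY hy
  exact ⟨⟨u, hy, hu⟩, rfl⟩

theorem io_le (P : Subgroup (Nh F Y)) : P.map (io F Y) ≤ Y := by
  rintro _ ⟨u, -, rfl⟩
  exact u.2.1

theorem mem_of_io {P : Subgroup (Nh F Y)} (hU : Uh F Y ≤ P) {u : Nh F Y} (h : io F Y u ∈ P.map (io F Y)) : u ∈ P := by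
  rwa [← Subgroup.mem_comap, Subgroup.comap_map_eq, io_ker, sup_eq_left.2 hU] at h

variable (F) in
/-- the derived group of the centralizer of the lifts -/
def DC (Q : Subgroup (RingAut A)) : Subgroup (RingAut A) :=
  (⁅F.Iso ⊓ CU (lifts F Q), F.Iso ⊓ CU (lifts F Q)⁆ : Subgroup Aˣ).map (cj A)

theorem DC_le (Q : Subgroup (RingAut A)) : DC F Q ≤ F.S :=
  Subgroup.map_mono (Subgroup.commutator_mono inf_le_left inf_le_left)

theorem mem_DC {Q : Subgroup (RingAut A)} (hQ : Q ≤ F.PI) {t : RingAut A} (ht : t ∈ DC F Q) :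
    ∃ u : Aˣ, (u : A) ∈ fixR Q ∧ ((u⁻¹ : Aˣ) : A) ∈ fixR Q ∧ cj A u = t := by
  obtain ⟨u, hu, rfl⟩ := ht
  have h1 := (Subgroup.commutator_le_self _ hu).2
  exact ⟨u, (mem_CU_lifts hQ).1 h1, (mem_CU_lifts hQ).1 (inv_mem h1), rfl⟩

theorem conj_DC {Q Q' : Subgroup (RingAut A)} (hQ : Q ≤ F.PI) (hQ' : Q' ≤ F.PI) {s : RingAut A} (hs : s ∈ F.Aut)
    (h : ∀ y ∈ Q, s⁻¹ * y * s⁻¹⁻¹ ∈ Q') : ∀ t ∈ DC F Q', s * t * s⁻¹ ∈ DC F Q := by
  rintro _ ⟨u, hu, rfl⟩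
  refine ⟨um s u, ?_, (DS.Cl.conj_cj s u).symm⟩
  have h3 : (F.Iso ⊓ CU (lifts F Q')).map (um s) ≤ F.Iso ⊓ CU (lifts F Q) := by
    rintro _ ⟨v, hv, rfl⟩
    refine ⟨FR.um_mem_Iso hs hv.1, (mem_CU_lifts hQ).2 fun g hg => ?_⟩
    have h4 := congrArg s ((mem_CU_lifts hQ').1 hv.2 _ (h g hg))
    rwa [inv_inv, ra_mul, ra_mul, ra_apply_inv] at h4
  exact Subgroup.commutator_mono h3 h3 (by rw [← Subgroup.map_commutator]; exact ⟨u, hu, rfl⟩)

theorem sq_eq_neg (hA : SS A) {z : A} (hz : z ∈ Subring.center A) (hs : z * star z = 1) (h1 : z * z = 1) (h2 : z ≠ 1) :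
    z = -1 := by
  have h3 : (z - 1) * (z + 1) = 0 := by rw [sub_mul, mul_add, h1, mul_one, one_mul, add_comm, sub_self]
  exact eq_neg_of_add_eq_zero_left ((isUnit_sub_one hA hz hs h2).mul_right_eq_zero.1 h3)

variable [Finite A]

section four

variable {P P' : Subgroup (Nh F Y)} (hA : SS A) (hY : ND F Y) (h1 : Pl (Uh F Y) P P') (h2 : Pl (Uh F Y) P' P)
include hY h1

omit [Finite A] in
theorem Pl.nd : ND F (P.map (io F Y)) := by
  refine ⟨(io_le P).trans hY.le, fun x hx y hy => hY.comm x (io_le P hx) y (io_le P hy),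
    cast_ne_of_dvd (Subgroup.card_dvd_of_le (io_le P)) hY.card, ?_⟩
  rintro _ ⟨x, hx, rfl⟩ h3
  by_contra h4
  obtain ⟨y, hy, h5, h6⟩ := h1.two x hx
  refine h6 (h1.cm y hy x hx h5 (fun e => h4 (DS.Cl.cj_eq_one_iff.2 e)) (Subtype.ext (Units.ext ?_)))
  have h7 := cj_mul_eq (x : Aˣ) (y : Aˣ)
  rwa [show cj A x (y : Aˣ) = (y : Aˣ) from h3 y y.2.2 ⟨y, hy, rfl⟩] at h7

omit [Finite A] hY in
theorem Pl.mem_fix {y : Nh F Y} (hy : y ∈ P) : ((y : Aˣ) : A) ∈ fixR (P'.map (io F Y)) := by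
  rintro _ ⟨x, hx, rfl⟩
  exact cj_eq_of_mul (congrArg (fun u : Nh F Y => ((u : Aˣ) : A)) (h1.comm y hy x hx).symm)

include hA h2

theorem Pl.ind (hf : fixR Y = Subring.center A) {Q : A → Prop}
    (a1 : ∀ c ∈ Subring.center A, ∀ y ∈ P, Q (c * ((y : Aˣ) : A))) (a2 : ∀ a b, Q a → Q b → Q (a + b)) :
    ∀ a ∈ fixR (P'.map (io F Y)), Q a := by
  have h3 := h2.nd hY
  have := Fintype.ofFinite (P'.map (io F Y))
  obtain ⟨m, hm⟩ := exists_natinv hA h3.card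
  intro a ha
  rw [← avg_fix hm ha]
  refine hY.ind hA (P := fun a => Q (avg _ m a)) (fun c hc u hu hu' => ?_) (fun a b ha hb => ?_) a
  · rw [hf] at hc
    obtain ⟨y, hy, h4⟩ := h1.prod ⟨u, hu', hu⟩
    obtain ⟨w, hw⟩ : ∃ w, w = y⁻¹ * ⟨u, hu', hu⟩ := ⟨_, rfl⟩
    have h5 : (u : A) = (y : Aˣ) * (w : Aˣ) := by rw [hw]; simp
    rw [← hw] at h4
    rw [h5, avg_left (h3.cen_le hc), avg_left (h1.mem_fix hy)]
    by_cases h6 : w ∈ Uh F Y
    · rw [avg_fix hm (h3.cen_le h6), cen_comm h6, ← mul_assoc]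
      exact a1 _ (mul_mem hc h6) y hy
    · rw [h3.avg_lift hA m w.2.2 ⟨w, h4, rfl⟩ (mt DS.Cl.cj_eq_one_iff.1 h6), mul_zero, mul_zero,
        ← zero_mul ((y : Aˣ) : A)]
      exact a1 _ (zero_mem _) y hy
  · rw [map_add]
    exact a2 _ _ ha hb

omit h2 hY in
theorem Pl.le_S (h0 : (2 : A) ≠ 0) (hL : F.L = Lmax A) (hst : Sty (Uh F Y) 2)
    (h4 : ∀ x, ∃ c ∈ Uh F Y, ((x * c) ^ 2) ^ 2 = 1) : P.map (io F Y) ≤ F.S := by
  have h5 : ∀ x ∈ P, x ∉ Uh F Y → ∃ k ∈ P, x⁻¹ * k ∈ Uh F Y ∧ ((k : Aˣ) : A) * (k : Aˣ) = -1 := by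
    intro x hx hx'
    obtain ⟨c, hc, h6⟩ := h4 x
    refine ⟨x * c, mul_mem hx (h1.le hc), by rwa [inv_mul_cancel_left], ?_⟩
    have h7 := sq_eq_neg hA (hst.pow (x * c)) (mul_star _) (by
      rw [sq] at h6
      exact congrArg (fun u : Nh F Y => ((u : Aˣ) : A)) h6) fun e => h1.ns x hx hx' c hc (Subtype.ext (Units.ext e))
    rw [sq] at h7
    exact h7
  rintro _ ⟨x, hx, rfl⟩
  by_cases hx' : x ∈ Uh F Y
  · rw [show io F Y x = 1 from DS.Cl.cj_eq_one_iff.2 hx']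
    exact one_mem _
  obtain ⟨y, hy, h6, h7⟩ := h1.two x hx
  obtain ⟨k, hk, h8, h9⟩ := h5 x hx hx'
  obtain ⟨i, hi, h10, h11⟩ := h5 y hy h6
  have hn : (Uh F Y).Normal := io_ker (F := F) (Y := Y) ▸ inferInstance
  have h12 : ((i : Aˣ) : A) * (k : Aˣ) = -((k : Aˣ) * (i : Aˣ)) := by
    have h13 := sq_eq_neg hA (hst.comm i k) (mul_star _) (by
      have h14 := hst.comm_pow_r i k
      rw [sq] at h14
      exact congrArg (fun u : Nh F Y => ((u : Aˣ) : A)) h14) fun e => h7 (by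
      have h14 := h1.cm i hi k hk (fun e => h6 (by simpa using mul_mem e (inv_mem h10)))
        (fun e => hx' (by simpa using mul_mem e (inv_mem h8)))
        (commutatorElement_eq_one_iff_mul_comm.1 (Subtype.ext (Units.ext e)))
      simpa [mul_assoc] using mul_mem (mul_mem h10 h14) (inv_mem h8))
    have h14 : i * k = ⁅i, k⁆ * (k * i) := by rw [commutatorElement_def]; group
    have h15 : ((i : Aˣ) : A) * (k : Aˣ) = ((⁅i, k⁆ : Nh F Y) : Aˣ) * (((k : Aˣ) : A) * (i : Aˣ)) :=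
      congrArg (fun u : Nh F Y => ((u : Aˣ) : A)) h14
    rw [h15, h13, neg_one_mul]
  have h13 : ∀ u : Nh F Y, ((u : Aˣ) : A) * (u : Aˣ) = -1 → star ((u : Aˣ) : A) = -(u : Aˣ) := fun u hu => by
    rw [star_eq]
    exact Units.inv_eq_of_mul_eq_one_right (by rw [mul_neg, hu, neg_neg])
  have h14 := h13 k h9
  have h15 := h13 i h11
  obtain ⟨t, ht⟩ := hA.isUnit_of_cen (c := 2) (natCast_mem _ 2) (star_ofNat 2) h0
  have h16 : ((t⁻¹ : Aˣ) : A) ∈ Subring.center A := inv_cen (ht ▸ natCast_mem _ 2)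
  have h17 : ((t⁻¹ : Aˣ) : A) * 2 = 1 := by rw [← ht, Units.inv_mul]
  have h18 : star ((t⁻¹ : Aˣ) : A) = (t⁻¹ : Aˣ) := by
    have h19 := congrArg star h17
    rw [star_mul, star_ofNat, star_one] at h19
    rw [← one_mul (star _), ← h17, mul_assoc, h19, mul_one]
  have hkx : io F Y k = io F Y x := by
    rw [eq_comm, ← inv_mul_eq_one, ← map_inv, ← map_mul]
    exact DS.Cl.cj_eq_one_iff.2 h8
  rw [← hkx]
  have hiI := i.2.2
  change cj A (k : Aˣ) ∈ F.S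
  generalize (i : Aˣ) = i at h11 h12 h15 hiI
  generalize (k : Aˣ) = k at h9 h12 h14
  generalize ((t⁻¹ : Aˣ) : A) = t at h16 h17 h18
  have e2 : ∀ a : A, (k : A) * (k * a) = -a := fun a => by rw [← mul_assoc, h9, neg_one_mul]
  have e3 : ∀ a : A, (i : A) * (k * a) = -(k * (i * a)) := fun a => by rw [← mul_assoc, h12, neg_mul, mul_assoc]
  have h19 : t * (1 + i + k * i + k) * star (t * (1 + i + k * i + k)) = 1 := by
    have e4 : (1 + i + k * i + k : A) * star (1 + i + k * i + k : A) = 2 * 2 := by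
      simp only [star_add, star_mul, star_one, h14, h15, mul_add, add_mul, mul_neg, neg_mul, neg_neg, mul_assoc, e2,
        e3, h9, h11, h12, mul_one, one_mul]
      rw [← one_add_one_eq_two]
      noncomm_ring
    rw [star_mul, h18, mul_assoc, ← mul_assoc _ _ t, e4, cen_comm h16, ← mul_assoc t 2, h17, one_mul, h17]
  refine ⟨⁅mkU _ h19, i⁆, Subgroup.commutator_mem_commutator (P5.mem_Iso_of_max hL h19) hiI, congrArg (cj A) ?_⟩
  rw [commutatorElement_def, mul_inv_eq_iff_eq_mul, mul_inv_eq_iff_eq_mul]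
  refine Units.ext ?_
  rw [Units.val_mul, Units.val_mul, Units.val_mul, mkU_val, ← mul_assoc _ t, cen_comm h16, mul_assoc, mul_assoc t]
  congr 1
  simp only [mul_add, add_mul, mul_neg, neg_neg, mul_assoc, e2, e3, h9, h11, h12, mul_one, one_mul]
  abel

theorem Pl.comm_fix (hf : fixR Y = Subring.center A) :
    ∀ a ∈ fixR (P'.map (io F Y)), ∀ b ∈ fixR (P.map (io F Y)), a * b = b * a := by
  refine h1.ind hA hY h2 hf (fun c hc y hy b hb => ?_) fun a a' ha ha' b hb => by rw [add_mul, mul_add, ha b hb, ha' b hb]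
  rw [mul_assoc, ← cj_mul_eq, show cj A y b = b from hb _ ⟨y, hy, rfl⟩, ← mul_assoc, ← mul_assoc, cen_comm hc]

end four

section ctx

variable (h : Cl.Ctx F S) (hN : NoCom F S) (hY : Ab F S Y)
include h hN hY

theorem Pl.DC_le {P P' : Subgroup (Nh F Y)} (h1 : Pl (Uh F Y) P P') (h2 : Pl (Uh F Y) P' P)
    (hf : fixR Y = Subring.center A) : DC F (P'.map (io F Y)) ≤ S := by
  have hnd := hY.nd h.le hN
  have a1 := (h1.nd hnd).le
  have a2 := (h2.nd hnd).le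
  intro t ht
  by_cases h0 : t = 1
  · rw [h0]; exact one_mem _
  have h3 : ∀ x ∈ fixR (P.map (io F Y)), ∀ t ∈ DC F (P'.map (io F Y)), t x = x := fun x hx t ht => by
    obtain ⟨u, hu, -, rfl⟩ := mem_DC a2 ht
    exact cj_eq_of_mul (h1.comm_fix h.ss hnd h2 hf _ hu x hx)
  refine h.mem_of_normalizes (X := DC F (P.map (io F Y)) ⊔ DC F (P'.map (io F Y)))
    (sup_le ((C2.DC_le _).trans F.S_le_Aut) ((C2.DC_le _).trans F.S_le_Aut))
    (fun e => h0 (by rw [← Subgroup.mem_bot, ← e]; exact Subgroup.mem_sup_right ht)) (fun h4 => ?_) (fun s hs => ?_)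
    (C2.DC_le _ ht) fun x hx => mul_mem (mul_mem (Subgroup.mem_sup_right ht) hx) (inv_mem (Subgroup.mem_sup_right ht))
  · have h5 : DC F (P.map (io F Y)) ⊔ DC F (P'.map (io F Y)) ≤ Cl.stab F (fixR (P.map (io F Y))) :=
      sup_le (fun t ht => Cl.mem_stab.2 ⟨F.S_le_Aut (C2.DC_le _ ht), fun x hx => by
        obtain ⟨u, hu, hu', rfl⟩ := mem_DC a1 ht
        exact mul_mem (mul_mem hu hx) hu'⟩) fun t ht => Cl.mem_stab.2 ⟨F.S_le_Aut (C2.DC_le _ ht), fun x hx => by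
        rw [h3 x hx t ht]; exact hx⟩
    obtain ⟨y, hy, h6, -⟩ := h2.two 1 (one_mem _)
    exact h6 (h.cen_of_inv (fun s hs => (Cl.mem_stab.1 (h5 (h4 hs))).2) ⟨t, C2.DC_le _ ht, h0, fun x hx => h3 x hx t ht⟩
      _ (h2.mem_fix hy))
  · obtain ⟨f, hf⟩ := exists_res h.le hY.inv
    have h4 : ∀ x, f ⟨s⁻¹, inv_mem hs⟩ x ∈ Uh F Y ↔ x ∈ Uh F Y := fun x => by
      rw [mem_Uh, mem_Uh, hf]
      exact ⟨fun e => by simpa [ra_apply_inv] using map_cen s e, map_cen _⟩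
    have h5 : ∀ Q Q' : Subgroup (Nh F Y), (∀ x ∈ Q, f ⟨s⁻¹, inv_mem hs⟩ x ∈ Q') →
        ∀ y ∈ Q.map (io F Y), s⁻¹ * y * s⁻¹⁻¹ ∈ Q'.map (io F Y) := by
      rintro Q Q' h6 _ ⟨x, hx, rfl⟩
      exact ⟨_, h6 x hx, (congrArg (cj A) (Units.ext (hf _ x))).trans (DS.Cl.conj_cj _ _).symm⟩
    have h6 : (DC F (P.map (io F Y)) ⊔ DC F (P'.map (io F Y))) ≤
        (DC F (P.map (io F Y)) ⊔ DC F (P'.map (io F Y))).comap (MulAut.conj s).toMonoidHom := by
      refine sup_le (fun t ht => ?_) fun t ht => ?_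
      · rcases h2.perm h1 _ h4 with h7 | h7
        · exact Subgroup.mem_sup_left (conj_DC a1 a1 (h.le hs) (h5 _ _ h7) t ht)
        · exact Subgroup.mem_sup_right (conj_DC a2 a1 (h.le hs) (h5 _ _ h7) t ht)
      · rcases h1.perm h2 _ h4 with h7 | h7
        · exact Subgroup.mem_sup_right (conj_DC a2 a2 (h.le hs) (h5 _ _ h7) t ht)
        · exact Subgroup.mem_sup_left (conj_DC a1 a2 (h.le hs) (h5 _ _ h7) t ht)
    exact fun x hx => h6 hx

omit hN [Finite A] in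
theorem Ab.not_le : ¬ F.S ≤ Y := fun e => h.noncomm ⟨⟨fun x y => Subtype.ext (hY.comm _ (e x.2) _ (e y.2))⟩⟩

omit hN in
theorem Ab.solv_fix {r : ℕ} (hst : Sty (Uh F Y) r) (hsp : Sp F Y) (h0 : Y ≠ ⊥) :
    Group.IsSolvable (Ext.Fix (Uh F Y)) := by
  have h1 : ∀ γ ∈ F.Aut ⊓ Main.nz Y, ∀ x ∈ Y, γ * x * γ⁻¹ ∈ Y := fun γ hγ x hx => (Main.mem_nz.1 hγ.2 x).1 hx
  have h2 : Group.IsSolvable ↥(F.Aut ⊓ Main.nz Y) := h.solv_of_inf_le inf_le_left fun t ht =>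
    h.mem_of_normalizes (hY.le.trans F.PI_le_Aut) h0 (hY.not_le h) hY.inv ht.2 (h1 t ht.1)
  obtain ⟨f, hf⟩ := exists_res inf_le_left h1
  have h3 : Ext.Fix (Uh F Y) ≤ f.range := fun φ hφ => by
    obtain ⟨γ, hγ, -, hγu⟩ := exists_ext h.ss hst hsp hφ
    refine ⟨⟨γ, hγ, Main.mem_nz_of fun x hx => ?_⟩, MulEquiv.ext fun u => Subtype.ext (Units.ext ((hf _ u).trans (hγu u)))⟩
    obtain ⟨u, hu, rfl⟩ := hY.le hx
    rw [DS.Cl.conj_cj, show um γ u = φ ⟨u, hx, hu⟩ from Units.ext (hγu ⟨u, hx, hu⟩)]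
    exact (φ ⟨u, hx, hu⟩).2.1
  have h4 : Group.IsSolvable f.range := Group.isSolvable_of_surjective f.rangeRestrict_surjective
  exact Group.isSolvable_of_isSolvable_injective (f := Subgroup.inclusion h3) (Subgroup.inclusion_injective _)

end ctx

/-- **The extraspecial case.** -/
theorem ext (h : Cl.Ctx F S) (hN : NoCom F S) {n : ℕ} (hn : Nat.card A = Nat.card (Subring.center A) ^ (n ^ 2))
    (h3 : 3 ≤ n) : ∃ Y, (n = 3 ∧ (3 : A) ≠ 0 ∧ Cl.ExtD F S Y 3 ∧ Nat.card Y = 9) ∨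
      (n = 4 ∧ (2 : A) ≠ 0 ∧ Cl.ExtD F S Y 2 ∧ Nat.card Y = 16 ∧ (Nat.card (Subring.center A) ≤ 3 ∨
        (Nat.card (Subring.center A) = 4 ∨ Nat.card (Subring.center A) = 9) ∧ ∃ z ∈ Subring.center A, star z ≠ z) ∧
        ∀ z ∈ Subring.center A, z * star z = 1 → z * z ≠ -1) := by
  have hA := h.ss
  have := hA.nontrivial
  obtain ⟨X, a1, a2, a3, -, a5, ⟨r, hr, a6, a7⟩, -⟩ := h.exists_min
  have hX : Ab F S X := ⟨a1.trans (inf_le_right.trans F.S_le_PI), a5, card_ne_of_exp hA hr a6 a7, a3⟩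
  obtain ⟨Y, hXY, hY, hm⟩ := Finite.exists_le_maximal (p := Ab F S) hX
  have h0 : Y ≠ ⊥ := fun e => a2 (eq_bot_iff.2 (e ▸ hXY))
  have hnd := hY.nd h.le hN
  have hf := hY.fix_eq h hN h0 fun Y' h1 h2 => hm h1 h2
  have hsp : Sp F Y := eq_top_iff.2 fun a _ => hnd.ind hA (P := fun a => a ∈ Subring.closure _)
    (fun x hx u hu hu' => mul_mem (Subring.subset_closure (Or.inl (hf ▸ hx)))
      (Subring.subset_closure (Or.inr ⟨u, hu, hu', rfl⟩))) (fun _ _ => add_mem) a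
  have hc : Nat.card Y = n ^ 2 := by
    have h1 := hnd.card_eq hA
    rw [hf, hn] at h1
    exact (Nat.pow_right_injective Finite.one_lt_card h1).symm
  obtain ⟨⟨x, hx⟩, h1⟩ := Subgroup.ne_bot_iff_exists_ne_one.1 a2
  have he := hY.exp h hN hn hc hr ⟨x, hXY hx, fun e => h1 (Subtype.ext e), a7 x hx⟩
  have hst := sty_of hA hY.le h0 hY.comm hr he hsp
  have hsv := hY.solv_fix h hst hsp h0
  have hi : (Uh F Y).index = n ^ 2 := by rw [← io_ker, Subgroup.index_ker, io_range hY.le, hc]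
  by_cases hQ : r = 2 ∧ ¬ 4 ∣ Nat.card (Uh F Y)
  swap
  · refine (solv_sty_sp hst (pow_of_nd hst hQ fun K hK x hx h4 => ?_) hsv).elim fun h4 h5 => ?_
    swap
    · have h6 : n = r := Nat.pow_left_injective two_ne_zero (hi.symm.trans h4)
      obtain rfl : r = 3 := by omega
      subst h6
      obtain ⟨k, h7, -⟩ := hX.solv h hN a2 hn
      have h8 : X = Y := by
        refine Subgroup.eq_of_le_of_card_ge hXY ?_
        have h9 : 1 < Nat.card X := (Subgroup.one_lt_card_iff_ne_bot X).2 a2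
        have h10 : k < 3 := by
          by_contra h10
          nlinarith [Nat.pow_le_pow_left (not_lt.1 h10) 2]
        rw [hc]
        interval_cases k <;> omega
      subst h8
      exact ⟨X, Or.inl ⟨rfl, a6, ⟨a1, a5, a7, a3, hsp⟩, hc⟩⟩
    · obtain ⟨f, hf⟩ := exists_res h.le hY.inv
      have h5 : Ab F S (K.map (io F Y)) := hY.sub (io_le K) (by
        rintro s hs _ ⟨u, hu, rfl⟩
        exact ⟨f ⟨s, hs⟩ u, (hK _).2 (by rw [← map_pow, (hK u).1 hu, map_one]),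
          (congrArg (cj A) (Units.ext (hf _ u))).trans (DS.Cl.conj_cj _ _).symm⟩)
      refine DS.Cl.cj_eq_one_iff.1 ((h5.nd h.le hN).nd _ ⟨x, hx, rfl⟩ fun u hu hu' => cj_eq_of_mul ?_)
      exact congrArg (fun u : Nh F Y => ((u : Aˣ) : A)) (h4 ⟨u, io_le K hu', hu⟩ (mem_of_io (fun c hc => (hK c).2
        (congrArg Subtype.val (pow_card_eq_one' (x := (⟨c, hc⟩ : Uh F Y))))) hu'))
  obtain ⟨rfl, hQ⟩ := hQ
  rcases solv_sty_o hst hQ hsv with h4 | ⟨h4, h5, P, P', h6, h7⟩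
  · nlinarith
  obtain rfl : n = 4 := Nat.pow_left_injective two_ne_zero (hi.symm.trans h4)
  have hL := hnd.L_eq hA h0
  have h8 : Y ≤ F.S := fun y hy => by
    rw [← io_range hY.le] at hy
    obtain ⟨u, rfl⟩ := hy
    obtain ⟨v, hv, h8⟩ := h6.prod u
    rw [← mul_inv_cancel_left v u, map_mul]
    exact mul_mem (h6.le_S hA a6 hL hst h5 ⟨v, hv, rfl⟩) (h7.le_S hA a6 hL hst h5 ⟨_, h8, rfl⟩)
  refine ⟨Y, Or.inr ⟨rfl, a6, ⟨fun y hy => ⟨h.mem_of_normalizes hnd.le_Aut h0 (hY.not_le h) hY.inv (h8 hy) fun x hx =>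
    mul_mem (mul_mem hy hx) (inv_mem hy), h8 hy⟩, hY.comm, he, hY.inv, hsp⟩, hc, ?_, fun z hz h9 h10 => hQ ?_⟩⟩
  · obtain ⟨k, h9, -, h10⟩ := (h7.nd hnd).solv hA hn (solv_of_comm h.solv (h6.DC_le h hN hY h7 hf))
      fun u hu hu' => ⟨hu, (mem_CU_lifts (h7.nd hnd).le).2 hu'⟩
    rw [← Subgroup.relIndex_ker, io_ker, h7.card] at h9
    obtain rfl : k = 2 := Nat.pow_left_injective two_ne_zero (show k ^ 2 = 2 ^ 2 by omega)
    rcases h10 with h10 | ⟨-, h10 | h10 | ⟨h10, h11 | ⟨a, ha, h11⟩⟩⟩ | ⟨h10, -⟩ | ⟨h10, -⟩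
    · omega
    · exact Or.inl h10.1
    · exact Or.inr h10
    · exact absurd hL h11
    · push Not at h10
      refine absurd (h6.ind hA hnd h7 hf (Q := fun a => a + star a ∈ Subring.center A) (fun c hc y hy => ?_)
        (fun a b ha hb => ?_) a ha) h11
      · by_cases h12 : y ∈ Uh F Y
        · exact add_mem (mul_mem hc h12) (star_cen (mul_mem hc h12))
        have h13 := sq_eq_neg hA (hst.pow y) (mul_star _) (by
          nth_rw 2 [← h10 _ (hst.pow y)]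
          exact mul_star _) fun e => h6.ns y hy h12 1 (one_mem _) (by rw [mul_one]; exact Subtype.ext (Units.ext e))
        have h14 : star ((y : Aˣ) : A) = -(y : Aˣ) := by
          rw [star_eq]
          refine Units.inv_eq_of_mul_eq_one_right ?_
          rw [mul_neg, neg_eq_iff_eq_neg, ← h13, sq]
          rfl
        rw [star_mul, h14, h10 c hc, neg_mul, cen_comm hc, add_neg_cancel]
        exact zero_mem _
      · rw [star_add, add_add_add_comm]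
        exact add_mem ha hb
    · omega
    · omega
  · let u : Uh F Y := ⟨⟨mkU z h9, by
      change cj A _ ∈ Y
      rw [DS.Cl.cj_eq_one_iff.2 hz]
      exact one_mem _, P5.mem_Iso_of_max hL h9⟩, hz⟩
    have h11 : (((u ^ 2 : Uh F Y) : Nh F Y) : Aˣ) = -1 := Units.ext (by rw [sq]; exact h10)
    have h12 : orderOf u = 2 ^ (1 + 1) := orderOf_eq_prime_pow (fun e => a6 ?_) (Subtype.ext (Subtype.ext ?_))
    · exact (show 4 = orderOf u from h12.symm) ▸ orderOf_dvd_natCard u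
    · rw [pow_one] at e
      rw [e] at h11
      rw [Nat.cast_ofNat, ← one_add_one_eq_two, add_eq_zero_iff_eq_neg]
      exact congrArg Units.val h11
    · rw [pow_succ, pow_one, pow_mul, Subgroup.coe_pow, Subgroup.coe_pow, h11, neg_one_sq]
      rfl

end Cfsg.Agent.SB.C2
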