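import Cfsg.Agent.SB.C2.Com
import Cfsg.Agent.SB.C2.ExtB
import Cfsg.Agent.SB.Fld.Rows
import Cfsg.Agent.SB.Cl.Cent

/-!
# S5765, classical groups: the groups without invariant frame (helper56)
-/

set_option autoImplicit false

namespace Cfsg.Agent.SB.C2

open Cfsg Cfsg.Agent.DS.Cl Cfsg.Agent.DS.Cl.Fwd Module Cfsg.Agent.SB.Cl
open scoped Matrix

section ring

variable {A : Type} [Ring A] [StarRing A] [Finite A] {F : FR A} {S : Subgroup (RingAut A)}

omit [StarRing A] [Finite A] in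
theorem cast_card_center : (Nat.card (Subring.center A) : A) = 0 := by
  simpa using congrArg Subtype.val (card_nsmul_eq_zero' (x := (1 : Subring.center A)))

theorem iso_le (h : Cl.Ctx F S) (hL : F.L = Lmax A) (F' : FR A) (hS : S ≤ F'.Aut) (hns : ¬ Group.IsSolvable F'.Iso) :
    F.Iso ≤ F'.Iso := by
  have h1 : F'.Iso ≤ F.Iso := fun u hu => mem_Iso_max hL hu.1
  have h2 : F'.S ≤ F.S := Subgroup.map_mono (Subgroup.commutator_mono h1 h1)
  have h3 : F.S ≤ F'.S := by
    by_contra h3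
    refine hns (solv_of_comm h.solv fun t ht => ?_)
    by_cases h4 : F'.S = ⊥
    · rw [show t = 1 from (Subgroup.eq_bot_iff_forall _).1 h4 t ht]
      exact one_mem _
    exact h.mem_of_normalizes (h2.trans F.S_le_Aut) h4 h3 (fun s hs x hx => FR.conj_mem_S (hS hs) hx) (h2 ht)
      fun x hx => mul_mem (mul_mem ht hx) (inv_mem ht)
  intro u hu
  refine ⟨hu.1, FR.mem_L_of_inv h.ss (F.S_le_Aut.trans F.Aut_le_SAut) (fun R hR => FR.two_of_S h.span hR) ?_
    fun t ht => ?_⟩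
  · rw [star_sub, star_mul, star_mul, star_star, eq_sub_of_add_eq' F'.l_add, sub_mul, mul_sub, one_mul, hu.1, mul_assoc]
    abel
  · have h4 := F'.map_mem (FR.cj_mem_Aut hu).1
      (F'.S_le_Aut (h3 (FR.conj_mem_S (inv_mem (FR.cj_mem_Aut hu)) ht))).2
    rw [map_sub, inv_inv, ra_mul, ra_mul, ra_apply_inv, FR.Iso.cj_apply hu] at h4
    convert F'.L.sub_mem h4 (F'.S_le_Aut (h3 ht)).2 using 1
    rw [map_sub]
    abel

end ring

section L

variable {n : ℕ} {K : Type} [Field K] [Finite K]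

theorem prL_bij : Function.Bijective fun a : LR (Fin n) K => (Fld.prL n K a, Fld.prL n K (star a)) :=
  ⟨fun a b e => sub_eq_zero.1 (Fld.luL.sep _ (by rw [map_sub, (Prod.mk.inj e).1, sub_self])
    (by rw [star_sub, map_sub, (Prod.mk.inj e).2, sub_self])), fun x =>
    ⟨LR.mk (Matrix.toLinAlgEquiv'.symm x.1) (Matrix.toLinAlgEquiv'.symm x.2)ᵀ, Prod.ext
      (Matrix.toLinAlgEquiv'.apply_symm_apply x.1) (Matrix.toLinAlgEquiv'.apply_symm_apply x.2)⟩⟩

/-- **Linear groups without invariant frame.** -/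
theorem nofrL {F : FR (LR (Fin n) K)} {S : Subgroup (RingAut (LR (Fin n) K))} (h3 : 3 ≤ n)
    (h4 : n ≤ 4 → 3 ≤ Nat.card K) (h : Cl.Ctx F S) (hD : ∀ D : Finset (LR (Fin n) K), Fr D → ¬ Inv S D) :
    (∃ Z : Subring (LR (Fin n) K), ComSub Z ∧ Inv S Z ∧ (∀ x ∈ Z, x.1 ≠ 0 → IsUnit x.1) ∧ Nat.card Z = Nat.card K ^ (2 * n)) ∨
      ∃ Y, (n = 3 ∧ 4 ≤ Nat.card K ∧ ExtD F S Y 3 ∧ Nat.card Y = 9) ∨
        (n = 4 ∧ Nat.card K = 3 ∧ ExtD F S Y 2 ∧ Nat.card Y = 16) := by
  have : Nonempty (Fin n) := ⟨⟨0, by omega⟩⟩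
  have hπ := prL_bij (n := n) (K := K)
  have hc := L_card_center hπ
  have hK : 2 ≤ Nat.card K := Finite.one_lt_card
  by_cases hN : NoCom F S
  · obtain ⟨Y, hY⟩ := ext h hN (n := n) (by
      rw [L_card hπ, card_end, hc, finrank_fin_fun, ← pow_mul, ← pow_mul, mul_comm]) h3
    refine Or.inr ⟨Y, hY.imp (fun ⟨a1, a2, a3⟩ => ⟨a1, ?_, a3⟩) fun ⟨a1, _, a3, a4, a5, _⟩ => ⟨a1, ?_, a3, a4⟩⟩
    · have a4 : Nat.card K ≠ 3 := fun e => cast_mul_ne h.ss (a := 3) (b := 3) a2 a2 (by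
        rw [← cast_card_center, hc, e]; rfl)
      have := h4 (by omega)
      omega
    · have := h4 (by omega)
      rw [hc] at a5
      rcases a5 with a5 | ⟨a5 | a5, -⟩ <;> nlinarith
  obtain ⟨Z, hZ⟩ := exists_tor h hD hN
  obtain ⟨ε, hε, h1, h2⟩ := L_eps hπ
  have h5 : IsF (Z.map (Fld.prL n K)) := ⟨by
    rintro _ ⟨x, hx, rfl⟩ _ ⟨y, hy, rfl⟩
    rw [← map_mul, ← map_mul, hZ.com.2.2 x hx y hy], by
    rintro _ ⟨x, hx, rfl⟩ h0
    obtain ⟨d, hd, e⟩ := hZ.eps_inv hε hx fun e => h0 (by rw [← one_mul (Fld.prL n K x), ← h1, ← map_mul, e, map_zero])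
    exact ⟨_, ⟨d, hd, rfl⟩, by rw [← map_mul, hZ.com.2.2 x hx d hd, e, h1]⟩⟩
  obtain ⟨m, a1, a2, -⟩ := h5.cent (RingEquiv.refl _) fun z hz => by
    obtain ⟨c, rfl⟩ := P5.exists_smul (RingEquiv.refl _) hz
    obtain ⟨a, b1, b2⟩ := L_surj hπ (c • 1) (c • 1)
    exact ⟨a, hZ.com.1 (L_cen hπ b1 b2), b1⟩
  have h6 : Subring.centralizer (Z.map (Fld.prL n K) : Set (End K (Fin n → K))) = Z.map (Fld.prL n K) := by
    refine le_antisymm (fun x hx => ?_) fun x hx y hy => h5.comm y hy x hx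
    obtain ⟨a, rfl, b2⟩ := L_surj hπ x 0
    refine ⟨a, (hZ.self h (by rw [hc]; nlinarith)).le fun z hz => L_inj hπ ?_ ?_, rfl⟩
    · rw [map_mul, map_mul]
      exact hx _ ⟨z, hz, rfl⟩
    · rw [star_mul, star_mul, map_mul, map_mul, b2, mul_zero, zero_mul]
  have : Finite (End K (Fin n → K)) := Finite.of_surjective _ Fld.luL.surj
  rw [h6] at a2
  obtain rfl : m = 1 := (Nat.pow_eq_one.1 (Nat.pow_right_injective (Finite.one_lt_card (α := Z.map (Fld.prL n K)))
    (a2.symm.trans (pow_one _).symm))).resolve_right two_ne_zero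
  refine Or.inl ⟨Z, hZ.com, hZ.inv, fun x hx h0 => ?_, ?_⟩
  · exact (MulEquiv.isUnit_map (Matrix.toLinAlgEquiv' (n := Fin n) (R := K))).1
      (h5.isUnit ⟨x, hx, rfl⟩ fun e => h0 ((map_eq_zero_iff _ (Matrix.toLinAlgEquiv' (n := Fin n) (R := K)).injective).1 e))
  · rw [pow_one, Nat.card_fun, Nat.card_fin] at a1
    rw [mul_comm, pow_mul, a1, sq, ← Nat.card_prod]
    refine Nat.card_congr (Equiv.ofBijective (fun z => (⟨_, z.1, z.2, rfl⟩, ⟨_, star z.1, hZ.com.2.1 _ z.2, rfl⟩))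
      ⟨fun x y e => Subtype.ext (L_inj hπ (Subtype.mk.inj (Prod.mk.inj e).1) (Subtype.mk.inj (Prod.mk.inj e).2)), ?_⟩)
    rintro ⟨⟨_, x, hx, rfl⟩, _, y, hy, rfl⟩
    refine ⟨⟨ε * x + star (ε * y), add_mem (mul_mem (hZ.com.1 hε.cen) hx) (hZ.com.2.1 _ (mul_mem (hZ.com.1 hε.cen) hy))⟩,
      Prod.ext (Subtype.ext ?_) (Subtype.ext ?_)⟩ <;> simp [h1, h2]

end L

variable {K V : Type} [Field K] [Finite K] [AddCommGroup V] [Module K V] [Finite V] (h : HF K V)

omit [Finite K] [Finite V] in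
/-- the ring of a form is the endomorphism ring -/
def ebE : h.EB ≃+* End K V := RingEquiv.refl (End K V)

theorem card_EB [Nontrivial V] : Nat.card h.EB = Nat.card (Subring.center h.EB) ^ (finrank K V ^ 2) := by
  rw [card_center (ebE h)]
  exact card_end K V

theorem star_cen_eq [Nontrivial V] (hτ : ∀ c, h.τ c = c) : ∀ z ∈ Subring.center h.EB, star z = z := fun z hz => by
  obtain ⟨c, rfl⟩ := P5.exists_smul (ebE h) hz
  exact (Fld.star_smul_one h c).trans (by rw [hτ]; rfl)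

omit [Finite V] in
theorem four_le (hU : IsU h) : 4 ≤ Nat.card K := by
  classical
  obtain ⟨c, hc⟩ := hU.2
  have := Fintype.ofFinite K
  have h0 : c ≠ 0 := fun e => hc (by rw [e, map_zero])
  have h1 : c ≠ 1 := fun e => hc (by rw [e, map_one])
  have h2 : h.τ c ≠ 0 := (map_ne_zero _).2 h0
  have h3 : h.τ c ≠ 1 := fun e => h1 (by rw [← h.τ_τ c, e, map_one])
  rw [Nat.card_eq_fintype_card, ← Finset.card_eq_four.2 ⟨0, 1, c, h.τ c, zero_ne_one, h0.symm, h2.symm, h1.symm, h3.symm,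
    hc.symm, rfl⟩]
  exact Finset.card_le_univ _

omit [Finite V] in
theorem exists_i (hU : IsU h) (h9 : Nat.card K = 9) : ∃ d : K, d * h.τ d = 1 ∧ d * d = -1 := by
  obtain ⟨c, hc⟩ := hU.2
  have h1 : h.τ (c - h.τ c) = -(c - h.τ c) := by rw [map_sub, h.τ_τ, neg_sub]
  have h0 : c - h.τ c ≠ 0 := sub_ne_zero.2 hc.symm
  let K0 := RingHom.eqLocusField h.τ (RingHom.id K)
  have h2 : Nat.card K0 = 3 := by
    have a1 : Nat.card K0 ∣ 9 := h9 ▸ AddSubgroup.card_addSubgroup_dvd_card K0.toAddSubgroup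
    have a2 : Nat.card K0 ≠ 9 := fun e => hc (show c ∈ K0.toAddSubgroup from
      AddSubgroup.eq_top_of_card_eq K0.toAddSubgroup (e.trans h9.symm) ▸ AddSubgroup.mem_top c)
    have a3 : 1 < Nat.card K0 := Finite.one_lt_card
    have a4 := Nat.le_of_dvd (by norm_num) a1
    generalize Nat.card K0 = k at a1 a2 a3 a4
    interval_cases k <;> omega
  generalize c - h.τ c = d at h1 h0
  have := Fintype.ofFinite K0
  have := Fintype.ofFinite K
  have h3 : (d * d) ^ 3 = d * d := by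
    have a1 := FiniteField.pow_card (⟨d * d, show h.τ (d * d) = d * d by rw [map_mul, h1, neg_mul_neg]⟩ : K0)
    rw [← Nat.card_eq_fintype_card, h2] at a1
    exact congrArg Subtype.val a1
  have h4 : (9 : K) = 0 := by
    have a1 := FiniteField.cast_card_eq_zero K
    rwa [← Nat.card_eq_fintype_card, h9] at a1
  have h5 : (d - 1) * ((d + 1) * (d * d + 1)) = 0 := mul_left_cancel₀ (mul_ne_zero h0 h0) (by linear_combination h3)
  have h6 : d * d = -1 := by
    rcases mul_eq_zero.1 h5 with a1 | a1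
    · rw [sub_eq_zero.1 a1, map_one] at h1
      exact absurd (by linear_combination h4 - 4 * h1) (one_ne_zero (α := K))
    rcases mul_eq_zero.1 a1 with a1 | a1
    · rw [eq_neg_of_add_eq_zero_left a1, map_neg, map_one] at h1
      exact absurd (by linear_combination h4 + 4 * h1) (one_ne_zero (α := K))
    · exact eq_neg_of_add_eq_zero_left a1
  exact ⟨d, by rw [h1, mul_neg, h6, neg_neg], h6⟩

variable {h} {F : FR h.EB} {S : Subgroup (RingAut h.EB)}

/-- **Unitary groups without invariant frame.** -/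
theorem nofrU (hU : IsU h) (h3 : 3 ≤ finrank K V) (h4 : finrank K V ≤ 4 → Nat.card K ≠ 4) (hx : Cl.Ctx F S)
    (hD : ∀ D : Finset h.EB, Fr D → ¬ Inv S D) :
    (∃ Z : Subring h.EB, ComSub Z ∧ Inv S Z ∧ (∀ x ∈ Z, x ≠ 0 → IsUnit x) ∧ Nat.card Z = Nat.card K ^ finrank K V ∧
      finrank K V ≠ 4) ∨ (finrank K V = 3 ∧ ∃ Y, ExtD F S Y 3 ∧ Nat.card Y = 9) := by
  have : Nontrivial V := Module.nontrivial_of_finrank_pos (R := K) (by omega)
  have hc := card_center (ebE h)
  have hK := four_le h hU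
  by_cases hN : NoCom F S
  · obtain ⟨Y, ⟨a1, -, a2⟩ | ⟨a1, -, -, -, a2, a3⟩⟩ := ext hx hN (card_EB h) h3
    · exact Or.inr ⟨a1, Y, a2⟩
    · have := h4 a1.le
      obtain ⟨d, b1, b2⟩ := exists_i h hU (by omega)
      refine absurd ?_ (a3 _ (h.smul_mem_center d) ?_)
      · change (d • 1 : End K V) * d • 1 = -1
        rw [smul_mul_smul_comm, b2, mul_one, neg_smul, one_smul]
      · rw [Fld.star_smul_one]
        change (d • 1 : End K V) * h.τ d • 1 = 1
        rw [smul_mul_smul_comm, b1, mul_one, one_smul]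
  obtain ⟨Z, hZ⟩ := exists_tor hx hD hN
  have hf : IsF Z := (hZ.half (ebE h) hx).resolve_right (by omega)
  obtain ⟨m, a1, a2, -⟩ := hf.cent (ebE h) hZ.com.1
  rw [hZ.self hx (by omega)] at a2
  have := hx.ss.nontrivial
  obtain rfl : m = 1 := (Nat.pow_eq_one.1 (Nat.pow_right_injective (Finite.one_lt_card (α := Z))
    (a2.symm.trans (pow_one _).symm))).resolve_right two_ne_zero
  rw [pow_one, Module.natCard_eq_pow_finrank (K := K)] at a1
  refine Or.inl ⟨Z, hZ.com, hZ.inv, fun x hx => hf.isUnit hx, a1.symm, fun e => ?_⟩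
  obtain ⟨W, m, b1, -, -, -, b2, -, b3, -⟩ := hZ.step (ebE h) hx hf (t := 2) two_ne_zero (by rw [← a1, e, ← pow_mul])
  obtain ⟨c, b4⟩ := hU.2
  have b5 := b3.of_nt ⟨_, b1.1 (h.smul_mem_center c), fun e => b4 (H277.FC.smul_one_inj (V := V)
    ((Fld.star_smul_one h c).symm.trans e))⟩
  have b6 : 16 ≤ Nat.card K ^ 2 := by nlinarith
  omega

omit [Finite K] [Finite V] in
theorem alt_swap (hb : ∀ v, h.b v v = 0) (u v : V) : h.b u v = -h.b v u := by
  have h1 := hb (u + v)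
  rw [h.add_left, h.add_right, h.add_right, hb, hb] at h1
  linear_combination h1

theorem sp4 (hb : ∀ v, h.b v v = 0) {W : Subring h.EB} (hW : IsF W) (hs : ∀ z ∈ W, star z = z)
    (hc : Nat.card V = Nat.card W ^ 2) {x : h.EB} (hx : x ∈ Subring.centralizer (W : Set h.EB)) (v : V) :
    ∃ w ∈ W, h.ap (x + star x) v = h.ap w v := by
  have h1 : ∀ w ∈ W, ∀ u v, h.b u (h.ap w v) = h.b (h.ap w u) v := fun w hw u v => by rw [← h.b_star, hs w hw]
  have h2 : ∀ w ∈ W, h.b v (h.ap w v) = 0 := fun w hw => by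
    by_cases h2 : (2 : K) = 0
    · obtain ⟨y, hy⟩ := Finite.surjective_of_injective (f := fun y : W => y * y) (fun y y' e => by
        by_contra a1
        have a2 := hW.isUnit (y - y').2 fun e => a1 (sub_eq_zero.1 (Subtype.ext e))
        have a3 : (y : h.EB) * y = y' * y' := congrArg Subtype.val e
        have a4 : (2 : h.EB) = 0 := by
          rw [← map_ofNat ((ebE h).symm.toRingHom.comp (algebraMap K (End K V))) 2, h2, map_zero]
        refine a1 (sub_eq_zero.1 (Subtype.ext (a2.mul_right_eq_zero.1 ?_)))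
        rw [AddSubgroupClass.coe_sub, sub_mul, mul_sub, mul_sub, hW.comm _ y'.2 _ y.2, ← a3]
        calc _ = 2 * ((y : h.EB) * y - y * y') := by rw [two_mul]; abel
          _ = 0 := by rw [a4, zero_mul]) ⟨w, hw⟩
      rw [← show (y : h.EB) * y = w from congrArg Subtype.val hy, h.ap_mul, h1 _ y.2, hb]
    · have a1 := h1 w hw v v
      rw [alt_swap hb (h.ap w v)] at a1
      exact (mul_eq_zero.1 (by linear_combination a1)).resolve_left h2
  by_contra hcon
  push Not at hcon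
  have h0 : v ≠ 0 := fun e => hcon 0 (zero_mem _) (by rw [e, map_zero, map_zero])
  have h3 : ∀ w ∈ W, h.b v (h.ap w (h.ap (x + star x) v)) = 0 := fun w hw => by
    rw [h1 w hw, h.ap_add, h.add_right, h.b_star, ← h.ap_mul, ← hx w hw, h.ap_mul, ← h1 w hw (h.ap x v), alt_swap hb,
      neg_add_cancel]
  generalize h.ap (x + star x) v = u at hcon h3
  have h4 : Function.Injective fun p : W × W => h.ap p.1 v + h.ap p.2 u := by
    rintro ⟨a, b⟩ ⟨a', b'⟩ e
    have a1 : h.ap (b - b') u = h.ap (a' - a) v := by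
      rw [h.ap_sub, h.ap_sub, sub_eq_sub_iff_add_eq_add, add_comm]
      exact e
    have a2 : (b : h.EB) - b' = 0 := by
      by_contra a2
      obtain ⟨y, hy, a3⟩ := hW.inv _ (b - b').2 a2
      refine hcon (y * (a' - a)) (mul_mem hy (a' - a).2) ?_
      rw [h.ap_mul, ← a1, ← h.ap_mul, show y * ((b : h.EB) - b') = 1 from (hW.comm _ hy _ (b - b').2).trans a3, h.ap_one]
    have a3 : (a' : h.EB) - a = 0 := by
      by_contra a3
      obtain ⟨y, hy, a4⟩ := hW.inv _ (a' - a).2 a3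
      refine h0 ?_
      rw [← h.ap_one v, ← show y * ((a' : h.EB) - a) = 1 from (hW.comm _ hy _ (a' - a).2).trans a4, h.ap_mul, ← a1, a2]
      exact map_zero (h.ap y)
    exact Prod.ext (Subtype.ext (sub_eq_zero.1 a3).symm) (Subtype.ext (sub_eq_zero.1 a2))
  refine h0 (h.nondeg v fun y => ?_)
  obtain ⟨⟨a, b⟩, rfl⟩ := (h4.bijective_of_nat_card_le (by rw [hc, Nat.card_prod, sq])).2 y
  rw [alt_swap hb, h.add_right, h2 _ a.2, h3 _ b.2, add_zero, neg_zero]

theorem sp6 (hS : IsSp h F) (h6 : finrank K V = 6) (h2 : Nat.card K = 2) (hx : Cl.Ctx F S) {W : Subring h.EB}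
    (hW : ComSub W) (hI : Inv S W) (h4 : Nat.card W = 4) (hnt : ∃ z ∈ W, star z ≠ z) : False := by
  classical
  obtain ⟨hτ, hb, hL⟩ := hS
  have : Nontrivial V := Module.nontrivial_of_finrank_pos (R := K) (by omega)
  have := hx.ss.nontrivial
  obtain ⟨ω, hω, h1⟩ := hnt
  have hK : ∀ c : K, c ≠ 0 → c = 1 := fun c hc => by
    obtain ⟨y, -, hy⟩ := (Nat.card_eq_two_iff' (0 : K)).1 h2
    rw [hy c hc, hy 1 one_ne_zero]
  have h2K : (1 : K) + 1 = 0 := by
    by_contra e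
    exact one_ne_zero (add_eq_left.1 (hK _ e))
  have h2A : ∀ a : h.EB, a + a = 0 := fun a => h.ap_ext fun v => by
    rw [h.ap_add, ← one_smul K (h.ap a v), ← add_smul, h2K, zero_smul]
    rfl
  have h3 : ∀ z ∈ W, z = 0 ∨ z = 1 ∨ z = ω ∨ z = star ω := fun z hz => by
    have a0 : ω ≠ 0 := fun e => h1 (by rw [e, star_zero])
    have a1 : ω ≠ 1 := fun e => h1 (by rw [e, star_one])
    have a2 : ({0, 1, ω, star ω} : Set h.EB) = W := Set.eq_of_subset_of_ncard_le (by
      rintro _ (rfl | rfl | rfl | rfl)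
      exacts [zero_mem _, one_mem _, hω, hW.2.1 _ hω]) (by
      rw [← Nat.card_coe_set_eq, show Nat.card (W : Set h.EB) = 4 from h4,
        Set.ncard_eq_four.2 ⟨0, 1, ω, star ω, zero_ne_one, a0.symm, (star_ne_zero.2 a0).symm, a1.symm,
          fun e => a1 (by rw [← star_star ω, ← e, star_one]), h1.symm, rfl⟩])
    rwa [← SetLike.mem_coe, ← a2] at hz
  have h5 : ω + star ω = 1 := by
    rcases h3 _ (add_mem hω (hW.2.1 _ hω)) with e | e | e | e
    · exact absurd (add_left_cancel (e.trans (h2A ω).symm)) h1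
    · exact e
    · exact absurd (by rw [star_eq_zero.1 (add_eq_left.1 e), star_zero]) h1
    · exact absurd (by rw [add_eq_right.1 e, star_zero]) h1
  let F' : FR h.EB := ⟨ω, Lmin _, h5, Or.inl rfl⟩
  have h7 := iso_le hx hL F' (fun s hs => ⟨hx.le_SAut hs, by
    have a1 : s ω + star (s ω) = 1 := by rw [← hx.le_SAut hs, ← map_add, h5, map_one]
    change s ω - ω ∈ Lmin _
    rcases h3 _ (hI s hs ω hω) with e | e | e | e <;> rw [e] at a1 ⊢
    · simp at a1
    · rw [star_one, h2A] at a1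
      exact absurd a1 zero_ne_one
    · rw [sub_self]
      exact zero_mem _
    · exact ⟨star ω, by rw [star_star]⟩⟩) fun hs => by
      obtain ⟨n, a1, a2⟩ := solv hx.ss F' hs
      rw [card_EB, h6] at a1
      obtain rfl : 6 = n := Nat.pow_left_injective two_ne_zero (Nat.pow_right_injective Finite.one_lt_card a1)
      unfold Cs at a2
      omega
  have h8 : ∀ u v, h.b u v = h.b v u := fun u v => by
    rw [alt_swap hb]
    linear_combination (-h.b v u) * h2K
  have h9 : ∀ x v, h.b (x + v) (h.ap ω (x + v)) = h.b x (h.ap ω x) + h.b v (h.ap ω v) + h.b v x := fun x v => by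
    have a1 : h.b v x = h.b v (h.ap ω x) + h.b x (h.ap ω v) := by
      rw [h8 x, ← h.b_star, ← h.add_right, ← h.ap_add, h5, h.ap_one]
    rw [map_add, h.add_left, h.add_right, h.add_right, a1]
    ring
  have h10 : ∀ v, v ≠ 0 → h.b v (h.ap ω v) = 1 := fun v hv => by
    obtain ⟨x, a1⟩ := h.exists_ne hv
    have a2 : ∀ y, h.ap (star (1 + h.eb (h.ro v v))) y = y + h.b y v • v := fun y => by
      rw [star_add, star_one, h.ap_add, h.ap_one, ap_star_ro, hτ, h8]
    have a3 : (1 + h.eb (h.ro v v)) * star (1 + h.eb (h.ro v v)) = 1 := h.ap_ext fun y => by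
      rw [h.ap_mul, a2, h.ap_add, h.ap_one, h.ap_one, h.ap_eb, h.ro_apply, h.add_left, h.smul_left, hb, mul_zero, add_zero,
        add_assoc, ← add_smul, ← one_mul (h.b y v), ← add_mul, h2K, zero_mul, zero_smul, add_zero]
    obtain ⟨a, a4⟩ := (h7 (mem_Iso_max hL (u := mkU _ a3) a3)).2
    have a5 := congrArg (fun c => h.b x (h.ap c x)) a4
    simp only [mkU_val, h.ap_sub, h.sub_right, h.ap_mul] at a5
    rw [← h.star_b, a2, hK _ a1, one_smul, h.b_star, h8 (h.ap a x), h9, h8 v x, hK _ a1] at a5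
    have a6 : F'.l = ω := rfl
    rw [a6] at a5
    linear_combination a5 - h2K
  obtain ⟨v, hv⟩ := exists_ne (0 : V)
  obtain ⟨x, a1, a2⟩ : ∃ x ∈ LinearMap.ker (h.lin v), x ∉ K ∙ v := by
    by_contra a1
    push Not at a1
    have a2 := Submodule.finrank_mono (show LinearMap.ker (h.lin v) ≤ K ∙ v from a1)
    have a3 := (h.lin v).finrank_range_add_finrank_ker
    have a4 := (LinearMap.range (h.lin v)).finrank_le
    rw [finrank_span_singleton hv] at a2
    rw [finrank_self] at a4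
    omega
  have a3 := h9 x v
  rw [h10 _ fun e => a2 (by rw [eq_neg_of_add_eq_zero_left e]; exact neg_mem (Submodule.mem_span_singleton_self v)),
    h10 v hv, h10 x fun e => a2 (e ▸ zero_mem _), h2K, h8, show h.b x v = 0 from a1, add_zero] at a3
  exact one_ne_zero a3

theorem nofrB (hτ : ∀ c, h.τ c = c) (h4 : 4 ≤ finrank K V) (h5 : finrank K V = 4 → 4 ≤ Nat.card K)
    (h6 : finrank K V ≤ 6 → IsSp h F) (hx : Cl.Ctx F S) (hD : ∀ D : Finset h.EB, Fr D → ¬ Inv S D) : False := by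
  have : Nontrivial V := Module.nontrivial_of_finrank_pos (R := K) (by omega)
  have hc := card_center (ebE h)
  have hs := star_cen_eq h hτ
  by_cases hN : NoCom F S
  · obtain ⟨Y, ⟨a1, -⟩ | ⟨a1, -, -, -, a2 | ⟨-, z, hz, a2⟩, -⟩⟩ := ext hx hN (card_EB h) (by omega)
    · omega
    · have := h5 a1
      omega
    · exact a2 (hs z hz)
  obtain ⟨Z, hZ⟩ := exists_tor hx hD hN
  have hf : IsF Z := (hZ.half (ebE h) hx).resolve_right (by omega)
  obtain ⟨t, ht, a1⟩ := hf.quad (ebE h) hZ.com.1 hZ.com.2.1 hs hZ.nt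
  obtain ⟨W, m, b1, b2, b3, b4, b5, b6, b7, b8⟩ := hZ.step (ebE h) hx hf ht a1
  have hK : 2 ≤ Nat.card K := Finite.one_lt_card
  have b9 : 4 ≤ Nat.card K ^ 2 := by nlinarith
  rcases b7 with rfl | ⟨rfl, b7⟩ | ⟨rfl, b7 | b7⟩ | b7
  · omega
  · have c1 : 16 ≤ Nat.card K ^ 2 := by have := h5 b5; nlinarith
    have c2 := h6 (by omega)
    rcases b7 with b7 | b7 | ⟨b7, c3 | ⟨x, c3, c4⟩⟩
    · omega
    · omega
    · exact c3 c2.2.2
    · push Not at b7
      exact c4 (b8 _ (add_mem c3 (star_centralizer b1.2.1 x c3)) (sp4 c2.2.1 b3 b7 b6 c3))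
  · omega
  · exact sp6 (h6 (by omega)) b5 (by nlinarith) hx b1 b2 (b4.trans b7.1) b7.2
  · omega

/-- **Symplectic groups have an invariant frame.** -/
theorem nofrSp (hS : IsSp h F) (h4 : 4 ≤ finrank K V) (h5 : finrank K V = 4 → 4 ≤ Nat.card K) (hx : Cl.Ctx F S)
    (hD : ∀ D : Finset h.EB, Fr D → ¬ Inv S D) : False :=
  nofrB hS.1 h4 h5 (fun _ => hS) hx hD

/-- **Orthogonal groups have an invariant frame.** -/
theorem nofrO {Q : QuadraticForm K V} (hO : IsO h F Q) (h7 : 7 ≤ finrank K V) (hx : Cl.Ctx F S)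
    (hD : ∀ D : Finset h.EB, Fr D → ¬ Inv S D) : False :=
  nofrB hO.1 (by omega) (by omega) (by omega) hx hD

end Cfsg.Agent.SB.C2
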