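import Cfsg.Agent.DS.Cl.Vec
import Cfsg.Agent.LieClassical.OrthSimple
import Cfsg.Agent.S0283

/-!
# The solvable classical groups, vector form (helper56)
-/

set_option autoImplicit false

namespace Cfsg.Agent.SB.C2

open Cfsg Cfsg.Agent.DS.Cl.Vec Matrix Module
open scoped MatrixGroups

theorem ns_of_perfect {X : Type*} [Group X] [Nontrivial X] (h : commutator X = ⊤) : ¬ Group.IsSolvable X :=
  fun _ => (Group.IsSolvable.commutator_lt_top_of_nontrivial X).ne h

theorem solv_of_equiv {X Y : Type*} [Group X] [Group Y] (e : X ≃* Y) (h : Group.IsSolvable Y) : Group.IsSolvable X :=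
  Group.isSolvable_of_isSolvable_injective (f := e.toMonoidHom) e.injective

theorem solv_of_center {X : Type*} [Group X] (h : Group.IsSolvable (X ⧸ Subgroup.center X)) : Group.IsSolvable X := by
  have : Group.IsSolvable (Subgroup.center X) :=
    Group.isSolvable_of_comm fun a b => Subtype.ext (Subgroup.mem_center_iff.1 b.2 a)
  exact Group.isSolvable_of_ker_le_range (Subgroup.center X).subtype (QuotientGroup.mk' (Subgroup.center X)) (by simp)

variable {K : Type*} [Field K] [Fintype K]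

omit [Fintype K] in
theorem nontrivial_sl {n : ℕ} (hn : 2 ≤ n) : Nontrivial SL(n, K) := by
  have h01 : (⟨0, by omega⟩ : Fin n) ≠ ⟨1, by omega⟩ := by simp
  refine ⟨⟨⟨Matrix.transvection ⟨0, by omega⟩ ⟨1, by omega⟩ 1, Matrix.det_transvection_of_ne _ _ h01 _⟩, 1, fun h => ?_⟩⟩
  have h1 := congrFun (congrFun (congrArg Subtype.val h) ⟨0, by omega⟩) ⟨1, by omega⟩
  simp [Matrix.transvection, h01] at h1

theorem ns_sl2 (h : 4 ≤ Fintype.card K) : ¬ Group.IsSolvable SL(2, K) := by
  obtain ⟨a, ha, ha'⟩ := exists_sq_ne h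
  have := nontrivial_sl (K := K) le_rfl
  exact ns_of_perfect (SL2.commutator_eq_top ha ha')

theorem ns_psl2 (h : 4 ≤ Fintype.card K) : ¬ Group.IsSolvable PSL(2, K) := fun h1 => ns_sl2 h (solv_of_center h1)

theorem solv_gl {n : ℕ} (h : Group.IsSolvable (GL (Fin n) K)) : n ≤ 1 ∨ (n = 2 ∧ Fintype.card K ≤ 3) := by
  have h1 : Group.IsSolvable SL(n, K) := Group.isSolvable_of_isSolvable_injective
    (f := (SpecialLinearGroup.toGL : SL(n, K) →* GL (Fin n) K)) SpecialLinearGroup.toGL_injective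
  by_cases h3 : 3 ≤ n
  · have := nontrivial_sl (K := K) (n := n) (by omega)
    exact absurd h1 (ns_of_perfect (Cfsg.Agent.S0248.result n h3))
  by_cases h2 : n = 2
  · subst h2
    by_cases h4 : 4 ≤ Fintype.card K
    · exact absurd h1 (ns_sl2 h4)
    · exact Or.inr ⟨rfl, by omega⟩
  · exact Or.inl (by omega)

theorem solv_sp {m : ℕ} (h : Group.IsSolvable (symplecticGroup (Fin m) K)) :
    m = 0 ∨ (m = 1 ∧ Fintype.card K ≤ 3) := by
  by_cases h0 : m = 0
  · exact Or.inl h0
  have : Nontrivial (symplecticGroup (Fin m) K) := by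
    refine ⟨⟨⟨_, SymplecticGroup.J_mem (Fin m) K⟩, 1, fun h => ?_⟩⟩
    have h1 := congrFun (congrFun (congrArg Subtype.val h) (.inl ⟨0, by omega⟩)) (.inl ⟨0, by omega⟩)
    simp [Matrix.J] at h1
  by_cases h1 : 3 ≤ m ∨ (m = 2 ∧ 3 ≤ Fintype.card K) ∨ 4 ≤ Fintype.card K
  · exact absurd h (ns_of_perfect (LieClassical.SympPerfect.commutator_eq_top h1))
  by_cases h2 : m = 2
  · subst h2
    have := card_cases K
    obtain ⟨e⟩ := Cfsg.Agent.S0247.result (F := K) (by omega)
    exact absurd (solv_of_equiv e.symm h) (Equiv.Perm.not_isSolvable _ (by simp; norm_num))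
  · exact Or.inr (by omega)

theorem solv_gu {q n : ℕ} (hK : Fintype.card K = q ^ 2) (h : Group.IsSolvable (GU n K q)) :
    n ≤ 1 ∨ (n = 2 ∧ (q = 2 ∨ q = 3)) ∨ (n = 3 ∧ q = 2) := by
  let f : SU n K q →* GU n K q :=
    ((SpecialLinearGroup.toGL : SL(n, K) →* GL (Fin n) K).comp (SU n K q).subtype).codRestrict (GU n K q) fun x => x.2
  have h1 : Group.IsSolvable (SU n K q) := Group.isSolvable_of_isSolvable_injective (f := f) fun a b e =>
    Subtype.ext (SpecialLinearGroup.toGL_injective (congrArg Subtype.val e))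
  by_cases h32 : n = 3 ∧ q = 2
  · exact Or.inr (Or.inr h32)
  by_cases h3 : 3 ≤ n
  · have := Cfsg.Agent.S0283.result hK n h3 h32
    have : Nontrivial (SU n K q) := (QuotientGroup.mk'_surjective (Subgroup.center (SU n K q))).nontrivial
    exact absurd h1 (ns_of_perfect (LieClassical.HermPerfect.commutator_SU_eq_top hK h3 h32))
  by_cases h2 : n = 2
  · subst h2
    obtain ⟨p, k, hp, -, hq, hk⟩ := LieClassical.HermBasic.exists_prime_pow hK
    obtain ⟨L, _, _, hL⟩ := exists_field p k hp hk.ne'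
    obtain ⟨e⟩ := Cfsg.Agent.S0281.result hK (hL.trans hq.symm)
    rcases card_cases L with h4 | h4 | h4
    · exact Or.inr (Or.inl ⟨rfl, Or.inl (by omega)⟩)
    · exact Or.inr (Or.inl ⟨rfl, Or.inr (by omega)⟩)
    · exact absurd (solv_of_equiv e.symm h1) (ns_sl2 h4)
  · exact Or.inl (by omega)

variable {V : Type*} [AddCommGroup V] [Module K V] [FiniteDimensional K V]

/-- linear groups -/
theorem solv_lin (h : Group.IsSolvable (V ≃ₗ[K] V)) : finrank K V ≤ 1 ∨ (finrank K V = 2 ∧ Fintype.card K ≤ 3) :=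
  solv_gl (solv_of_equiv (LieClassical.OrthFourCommon.glEquiv (Module.finBasis K V).equivFun.symm) h)

/-- symplectic groups -/
theorem solv_alt (b : LinearMap.BilinForm K V) (hb : b.IsAlt) (hs : b.SeparatingLeft)
    (h : Group.IsSolvable (Isom K fun v w => b v w)) : finrank K V = 0 ∨ (finrank K V = 2 ∧ Fintype.card K ≤ 3) := by
  obtain ⟨m, l, c, -, -, -, h4⟩ := Cfsg.Agent.S0752.result b hb
  have hl : l = 0 := by
    by_contra hl
    exact c.ne_zero _ (hs _ (h4 ⟨0, Nat.pos_of_ne_zero hl⟩))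
  subst hl
  have hm : finrank K V = 2 * m := by
    rw [finrank_eq_card_basis c]
    simp [two_mul]
  obtain ⟨e, he⟩ := ClassicalGeometry.SympIso.exists_linearEquiv_sympForm b hb hs hm
  obtain ⟨φ⟩ := exists_equiv e (sympForm m K) (fun v w => b v w) he
  have h1 := solv_of_equiv φ h
  let f : symplecticGroup (Fin m) K →* preserving (Units.coeHom (Matrix (Fin m ⊕ Fin m) (Fin m ⊕ Fin m) K)) (sympForm m K) :=
    (symplecticGroup (Fin m) K).subtype.toHomUnits.codRestrict _ fun x =>
      ClassicalGeometry.SympBasic.mem_symplecticGroup_iff.1 x.2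
  have h2 : Group.IsSolvable (symplecticGroup (Fin m) K) := Group.isSolvable_of_isSolvable_injective (f := f)
    fun a b e => Subtype.ext (congrArg Units.val (congrArg Subtype.val e))
  rcases solv_sp h2 with h3 | ⟨h3, h5⟩
  · exact Or.inl (by omega)
  · exact Or.inr ⟨by omega, h5⟩

/-- unitary groups -/
theorem solv_herm {σ : K →+* K} (hσ : σ ≠ RingHom.id K) (hσ2 : ∀ a, σ (σ a) = a)
    (b : V →ₛₗ[σ] V →ₗ[K] K) (hb : b.IsSymm) (hs : b.SeparatingLeft)
    (h : Group.IsSolvable (Isom K fun v w => b v w)) : finrank K V ≤ 1 ∨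
      (finrank K V = 2 ∧ (Fintype.card K = 4 ∨ Fintype.card K = 9)) ∨ (finrank K V = 3 ∧ Fintype.card K = 4) := by
  obtain ⟨q, -, hq, hσq⟩ := H324.FC.exists_q (RingEquiv.ofRingHom σ σ (RingHom.ext hσ2) (RingHom.ext hσ2)) hσ2
    (ClassicalGeometry.InvolutiveNorm.exists_sigma_ne hσ)
  have hσq' : ∀ x, σ x = x ^ q := hσq
  rw [Nat.card_eq_fintype_card] at hq
  obtain ⟨c, hc⟩ := ClassicalGeometry.HermOrthonormal.exists_orthonormal_basis hσ hσ2 b hb hs
  obtain ⟨φ⟩ := exists_equiv c.equivFun.symm (hermForm _ K q) (fun v w => b w v) fun u v => by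
    simp only [Module.Basis.equivFun_symm_apply, map_sum, LinearMap.sum_apply, LinearMap.map_smulₛₗ, map_smul,
      LinearMap.smul_apply, hc, smul_eq_mul, mul_ite, mul_one, mul_zero, Finset.sum_ite_eq', Finset.mem_univ, if_true,
      hσq', hermForm]
  have h1 : (Isom K fun v w => b w v) = Isom K fun v w => b v w := by
    ext g
    exact ⟨fun h v w => h w v, fun h v w => h w v⟩
  have ψ : GU (finrank K V) K q ≃* Isom K fun v w => b v w := φ.trans (MulEquiv.subgroupCongr h1)
  rcases solv_gu hq (solv_of_equiv ψ h) with h2 | ⟨h2, rfl | rfl⟩ | ⟨h2, rfl⟩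
  · exact Or.inl h2
  · exact Or.inr (Or.inl ⟨h2, Or.inl hq⟩)
  · exact Or.inr (Or.inl ⟨h2, Or.inr hq⟩)
  · exact Or.inr (Or.inr ⟨h2, hq⟩)

omit [Fintype K] in
theorem solv_pomega {ι : Type} [Fintype ι] [DecidableEq ι] {Q : (ι → K) → K} {X Y : Type*} [Group X]
    [Group Y] (φ : isometryGroup K Q ≃* X) (ψ : POmega K Q ≃* Y) (h : Group.IsSolvable X) : Group.IsSolvable Y := by
  have := solv_of_equiv φ h
  exact solv_of_equiv ψ.symm inferInstance

open LieClassical.OrthCore in
/-- orthogonal groups -/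
theorem solv_O (Q : QuadraticForm K V) (hQ : Nondeg Q) (h : Group.IsSolvable (O Q)) :
    finrank K V ≤ 2 ∨ (finrank K V = 3 ∧ Fintype.card K = 3) ∨ (finrank K V = 4 ∧ Fintype.card K ≤ 3 ∧
      ∃ g : V ≃ₗ[K] (Fin 2 ⊕ Fin 2 → K), ∀ v, Q v = quadFormPlus 2 K (g v)) := by
  have hQ' : (QuadraticMap.polarBilin Q).Nondegenerate :=
    ⟨fun x hx => hQ x hx, fun x hx => hQ x fun y => by rw [QuadraticMap.polar_comm]; exact hx y⟩
  have han : ∀ ζ : K, (∀ t : K, t ^ 2 + t + ζ ≠ 0) → ∀ z₁ z₂ : K, z₁ ^ 2 + 1 * z₁ * z₂ + ζ * z₂ ^ 2 = 0 →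
      z₁ = 0 ∧ z₂ = 0 := by
    intro ζ hζ z₁ z₂ h
    by_cases h2 : z₂ = 0
    · rw [h2] at h
      exact ⟨by simpa using h, h2⟩
    · refine absurd ?_ (hζ (z₁ / z₂))
      field_simp
      linear_combination h
  by_cases h5 : 5 ≤ finrank K V
  · have hG := LieClassical.OrthFinite.good_of_finite hQ h5
    obtain ⟨g, hg, hg1⟩ := LieClassical.OrthSimple.good_E_ne_bot hG
    have h1 : Group.IsSolvable (E Q) :=
      Group.isSolvable_of_isSolvable_injective (f := Subgroup.inclusion E_le_O) (Subgroup.inclusion_injective _)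
    have : Nontrivial (E Q) := ⟨⟨⟨g, hg⟩, 1, fun h => hg1 (congrArg Subtype.val h)⟩⟩
    refine absurd h1 (ns_of_perfect ?_)
    rw [eq_top_iff, ← Subgroup.map_le_map_iff_of_injective (Subgroup.subtype_injective (E Q)),
      commutator_def, Subgroup.map_commutator, ← MonoidHom.range_eq_map, Subgroup.range_subtype, hG.E_perfect]
  by_cases h1 : finrank K V ≤ 2
  · exact Or.inl h1
  have h2 : finrank K V = 2 * 1 + 1 ∨ finrank K V = 2 * 2 := by omega
  rcases h2 with h2 | h2
  · obtain ⟨c, h3, h4, h5, h6, -⟩ := Cfsg.Agent.S2618.result h2 Q hQ'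
    have hc : ∀ v, v = c.repr v (.inl ()) • c (.inl ()) + (c.repr v (.inr (.inl 0)) • c (.inr (.inl 0)) +
        c.repr v (.inr (.inr 0)) • c (.inr (.inr 0))) := by
      intro v
      conv_lhs => rw [← c.sum_repr v]
      simp only [Fintype.sum_sum_type, Fintype.sum_unique]
      rfl
    have h7 := h6 0 0
    rw [if_pos rfl] at h7
    have h8 : (2 : K) ≠ 0 := by
      intro h9
      refine c.ne_zero (.inl ()) (hQ _ fun y => ?_)
      rw [hc y]
      simp only [QuadraticMap.polar_add_right, QuadraticMap.polar_smul_right, (h4 0).1, (h4 0).2, polar_self', h9,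
        zero_mul, smul_zero, add_zero]
    have hodd : Odd (Fintype.card K) :=
      Nat.odd_iff.2 (FiniteField.odd_card_of_char_ne_two fun h => h8 (by
        have := (ringChar.spec K 2).2 (by rw [h])
        exact_mod_cast this))
    let c' := c.unitsSMul (Sum.elim (fun _ => 1) (Sum.elim (fun _ => Units.mk0 _ h3) fun _ => 1))
    obtain ⟨φ⟩ := O_equiv c'.equivFun (quadFormOdd 1 K) Q h3 fun v => by
      conv_lhs => rw [hc v]
      simp only [Q_add, QuadraticMap.map_smul, QuadraticMap.polar_add_right, QuadraticMap.polar_smul_right,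
        QuadraticMap.polar_smul_left, (h4 0).1, (h4 0).2, (h5 0).1, (h5 0).2, h7, smul_eq_mul, quadFormOdd, c',
        Module.Basis.equivFun_apply, Module.Basis.repr_unitsSMul, Fin.sum_univ_one, Sum.elim_inl, Sum.elim_inr,
        inv_one, one_smul, Units.smul_def, Units.val_inv_eq_inv_val, Units.val_mk0]
      field_simp
      ring
    obtain ⟨ψ⟩ := Cfsg.Agent.S0298.result hodd
    rcases card_cases K with h9 | h9 | h9
    · rw [h9] at hodd
      exact absurd hodd (by decide)
    · exact Or.inr (Or.inl ⟨h2, h9⟩)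
    · exact absurd (solv_pomega φ ψ h) (ns_psl2 h9)
  · rcases H174.exists_std (by norm_num) h2 Q hQ' with ⟨g, hg⟩ | ⟨ζ, g, hζ, hg⟩
    · obtain ⟨φ⟩ := O_equiv g _ Q one_ne_zero fun v => by rw [one_mul, hg]
      refine Or.inr (Or.inr ⟨h2, ?_, g, hg⟩)
      by_contra h3
      obtain ⟨ψ⟩ := Cfsg.Agent.S0299.result (F := K) (by omega)
      have := solv_pomega φ ψ h
      exact ns_psl2 (K := K) (by omega)
        (Group.isSolvable_of_surjective (f := MonoidHom.fst PSL(2, K) PSL(2, K)) Prod.fst_surjective)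
    · obtain ⟨φ⟩ := O_equiv g _ Q one_ne_zero fun v => by rw [one_mul, hg]
      obtain ⟨p, hp⟩ := CharP.exists K
      obtain ⟨k, hpp, hk⟩ := FiniteField.card K p
      obtain ⟨L, _, _, hL⟩ := exists_field p (k * 2) hpp (mul_ne_zero k.ne_zero two_ne_zero)
      rw [pow_mul, ← hk] at hL
      obtain ⟨ψ⟩ := Cfsg.Agent.S0300.result rfl hL 1 ζ (han ζ hζ)
      have h4 : 4 ≤ Fintype.card L := by
        have : 1 < Fintype.card K := Fintype.one_lt_card
        rw [hL]
        nlinarith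
      exact absurd (solv_pomega φ ψ h) (ns_psl2 h4)

end Cfsg.Agent.SB.C2
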