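import Cfsg.Agent.SB.C2.Fld

/-!
# Invariant abelian subgroups with commuting lifts (helper56)
-/

set_option autoImplicit false

namespace Cfsg.Agent.SB.C2

open Cfsg Cfsg.Agent.DS.Cl Module

theorem Cs.of_nt {n c : ℕ} {nt o2 : Prop} (h : Cs n c nt o2) (h1 : nt) :
    n = 1 ∨ (n = 2 ∧ (c = 4 ∨ c = 9)) ∨ (n = 3 ∧ c = 4) := by
  unfold Cs at h
  tauto

variable {A : Type} [Ring A] [StarRing A]

/-- an invariant commutative subring, the centre of its star-simple centralizer -/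
structure Tor (F : FR A) (S : Subgroup (RingAut A)) (Z : Subring A) : Prop where
  com : Cl.ComSub Z
  inv : Inv S Z
  not_le : ¬ Z ≤ Subring.center A
  nt : ∃ z ∈ Z, star z ≠ z
  l : ∃ l ∈ Subring.centralizer (Z : Set A), l + star l = 1 ∧ l - F.l ∈ F.L
  ss : ∀ hs, SS (Blk.ofSubring (Subring.centralizer (Z : Set A)) hs).T
  cen : cenOf (Subring.centralizer (Z : Set A)) = Z

variable [Finite A] {F : FR A} {S : Subgroup (RingAut A)} {Z : Subring A}

theorem exists_tor (h : Cl.Ctx F S) (hD : ∀ D : Finset A, Fr D → ¬ Inv S D) (hN : ¬ NoCom F S) : ∃ Z, Tor F S Z := by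
  unfold NoCom at hN
  push Not at hN
  obtain ⟨G, h1, h2, h3, h4, h5⟩ := hN
  have hG := (h1.trans F.PI_le_Aut).trans F.Aut_le_SAut
  have h6 : lifts F G ⊆ cenOf (fixR G) := by
    rintro _ ⟨u, hu, hu', rfl⟩
    refine ⟨(mem_CU_lifts h1).1 ?_, fun y hy => by rw [← cj_mul_eq u y, hy _ hu']⟩
    rintro _ ⟨v, hv, hv', rfl⟩
    exact congrArg Units.val (h4 u hu v hv hu' hv')
  have h7 : Subring.centralizer (cenOf (fixR G) : Set A) = fixR G := le_antisymm (fun a ha g hg => by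
    obtain ⟨u, hu, rfl⟩ := h1 hg
    exact cj_eq_of_mul (ha _ (h6 ⟨u, hu, hg, rfl⟩))) fun a ha z hz => (hz.2 a ha).symm
  have h8 : ∀ x ∈ cenOf (fixR G), ∀ y ∈ cenOf (fixR G), x * y = y * x := fun x hx y hy => hy.2 x hx.1
  have h9 : Inv S (cenOf (fixR G)) := inv_cenOf (inv_fixR h3)
  have h10 := ss_fix h.ss hG h2 fun e he a1 a2 => by
    by_contra a3
    push Not at a3
    obtain ⟨D, a4, -, a5⟩ := exists_frame _ h8 he a1 a2 a3.1 a3.2
    exact hD D a4 (a5 S h.le_SAut h9)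
  refine ⟨cenOf (fixR G), ⟨fun z hz => ⟨cen_le_fixR (h1.trans F.PI_le_Lin) hz, fun y _ => cen_comm hz y⟩,
    fun z hz => ⟨star_fixR hG z hz.1, fun y hy => ?_⟩, h8⟩, h9, fun e => lifts_not_le h1 h5 (h6.trans e), ?_, ?_, ?_, ?_⟩
  · simpa using (congrArg star (hz.2 _ (star_fixR hG y hy))).symm
  · by_contra a1
    push Not at a1
    refine lifts_not_le h1 h5 ?_
    rintro _ ⟨u, hu, hu', rfl⟩
    have a2 := h6 ⟨u, hu, hu', rfl⟩
    let B := Blk.ofSubring (fixR G) (star_fixR hG)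
    have a3 : (u : A) * star (u : A) = 1 := FR.Iso.ms hu
    by_cases a4 : B.mk' u a2.1 = 1
    · rw [show (u : A) = 1 from congrArg B.val a4]
      exact one_mem _
    obtain ⟨w, hw⟩ := Ext.isUnit_sub_one h10 (c := B.mk' u a2.1) (B.mem_center_iff.2 a2.2) (B.val_inj a3) a4
    have a5 : (w : B.T) * (B.mk' u a2.1 + 1) = 0 := by
      rw [hw]
      refine B.val_inj ?_
      change ((u : A) - 1) * (u + 1) = 0
      rw [a1 _ a2] at a3
      rw [sub_mul, mul_add, a3, mul_one, one_mul, add_comm, sub_self]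
    have a6 : (u : A) + 1 = 0 := congrArg B.val (w.mul_right_eq_zero.1 a5)
    rw [eq_neg_of_add_eq_zero_left a6]
    exact neg_mem (one_mem _)
  · rw [h7]
    exact exists_l h.ss (h1.trans F.PI_le_Aut) h2
  · rw [h7]
    exact fun _ => h10
  · rw [h7]

namespace Tor

variable (hZ : Tor F S Z)
include hZ

omit [Finite A] in
/-- the centralizer -/
def blk : Blk A := Blk.ofSubring (Subring.centralizer (Z : Set A)) (star_centralizer hZ.com.2.1)

omit [Finite A] in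
theorem le_cent : Z ≤ Subring.centralizer (Z : Set A) := fun x hx y hy => hZ.com.2.2 y hy x hx

omit [Finite A] in
theorem cen_iff {x : hZ.blk.T} : x ∈ Subring.center hZ.blk.T ↔ hZ.blk.val x ∈ Z := by
  rw [Blk.mem_center_iff]
  exact ⟨fun h => hZ.cen.le ⟨x.2, h⟩, fun h y hy => (hy _ h).symm⟩

omit [Finite A] in
theorem ss' : SS hZ.blk.T := hZ.ss _

omit [Finite A] in
theorem eps {e : A} (he : e ∈ Z) (h1 : e * e = e) (h2 : e + star e = 1) : Eps (hZ.blk.mk' e (hZ.le_cent he)) :=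
  ⟨hZ.cen_iff.2 he, hZ.blk.val_inj h1, hZ.blk.val_inj h2⟩

theorem cases : (∃ e ∈ Z, e * e = e ∧ e + star e = 1) ∨ IsF Z := by
  refine or_iff_not_imp_left.2 fun h => ⟨hZ.com.2.2, fun x hx h0 => ?_⟩
  obtain ⟨u, hu⟩ := hZ.ss'.isUnit_of_not_eps (fun ⟨e, he⟩ => h ⟨_, hZ.cen_iff.1 he.cen,
    congrArg hZ.blk.val he.idem, congrArg hZ.blk.val he.add⟩) (c := hZ.blk.mk' x (hZ.le_cent hx)) (hZ.cen_iff.2 hx)
    fun e => h0 (congrArg hZ.blk.val e)
  refine ⟨hZ.blk.val (u⁻¹ : hZ.blk.Tˣ), hZ.cen_iff.1 (inv_cen (hu ▸ hZ.cen_iff.2 hx)), ?_⟩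
  have h1 := u.mul_inv
  rw [hu] at h1
  exact congrArg hZ.blk.val h1

omit [Finite A] in
theorem inv_pair (hS : S ≤ SAut A) {e : A} (he : e ∈ Z) (h1 : e * e = e) (h2 : e + star e = 1) :
    Inv S {e, star e} := by
  have h3 : ∀ s ∈ S, s e = e ∨ s e = star e := fun s hs =>
    (hZ.ss'.eps_unique (hZ.eps he h1 h2) (hZ.eps (hZ.inv s hs e he) (by rw [← map_mul, h1])
      (by rw [← hS hs, ← map_add, h2, map_one]))).imp (congrArg hZ.blk.val) (congrArg hZ.blk.val)
  rintro s hs _ (rfl | rfl)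
  · exact h3 s hs
  · rw [hS hs]
    rcases h3 s hs with h4 | h4 <;> rw [h4]
    · exact Or.inr rfl
    · exact Or.inl (star_star e)

omit [Finite A] in
theorem sub_l {e : A} (he : e ∈ Z) (h2 : e + star e = 1) : e - F.l ∈ F.L := by
  obtain ⟨l, a1, a2, a3⟩ := hZ.l
  have h3 := F.L.sub_mem a3 (F.sub_star_mem (e * (l - e)))
  have h4 : star e = 1 - e := eq_sub_of_add_eq' h2
  have h5 : star l = 1 - l := eq_sub_of_add_eq' a2
  have h6 : e * l = l * e := a1 e he
  rw [star_mul, star_sub, h4, h5] at h3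
  convert h3 using 1
  rw [mul_sub e, h6]
  noncomm_ring

omit [Finite A] in
theorem eps_inv {ε x : A} (hε : Eps ε) (hx : x ∈ Z) (h0 : ε * x ≠ 0) : ∃ d ∈ Z, d * x = ε := by
  obtain ⟨d, h1, h2⟩ := hZ.ss'.eps_inv (hZ.eps (hZ.com.1 hε.cen) hε.idem hε.add)
    (c := hZ.blk.mk' x (hZ.le_cent hx)) (hZ.cen_iff.2 hx) fun e => h0 (congrArg hZ.blk.val e)
  exact ⟨_, hZ.cen_iff.1 h1, congrArg hZ.blk.val h2⟩

theorem self (h : Cl.Ctx F S) (h4 : 4 ≤ Nat.card (Subring.center A)) : Subring.centralizer (Z : Set A) = Z := by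
  obtain ⟨l, a1, a2, a3⟩ := hZ.l
  obtain ⟨m, h1, h2⟩ := solv_sub F (hZ.ss (star_centralizer hZ.com.2.1)) a1 a2 a3
    (solv_CU h hZ.inv hZ.not_le) fun u hu hu' => ⟨hu, fun w hw => (hu' w hw).symm⟩
  rw [hZ.cen] at h1 h2
  have h3 : Nat.card (Subring.center A) ∣ Nat.card Z :=
    AddSubgroup.card_dvd_of_le (H := (Subring.center A).toAddSubgroup) (K := Z.toAddSubgroup) hZ.com.1
  have h5 : Nat.card (Subring.center A) ≠ Nat.card Z := fun e => hZ.not_le (AddSubgroup.eq_of_le_of_card_ge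
    (H := (Subring.center A).toAddSubgroup) (K := Z.toAddSubgroup) hZ.com.1 e.ge).ge
  have h6 : Nat.card Z ≠ 4 ∧ Nat.card Z ≠ 9 := by
    have h7 := Nat.le_of_dvd Nat.card_pos h3
    generalize Nat.card (Subring.center A) = c at h3 h4 h5 h7
    refine ⟨by omega, fun e => ?_⟩
    rw [e] at h3 h5 h7
    interval_cases c <;> omega
  obtain rfl : m = 1 := by have := h2.of_nt hZ.nt; omega
  rw [one_pow, pow_one] at h1
  exact Subring.toAddSubgroup_injective (AddSubgroup.eq_of_le_of_card_ge (H := Z.toAddSubgroup)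
    (K := (Subring.centralizer (Z : Set A)).toAddSubgroup) hZ.le_cent h1.le).symm

end Tor

/-- two complementary totally isotropic subspaces -/
theorem solv_half {e : A} (h1 : e * e = e) (h2 : e + star e = 1) (h3 : e - F.l ∈ F.L)
    (hs : Group.IsSolvable ↥(F.Iso ⊓ CU {e, star e})) {H : Type} [Group H] (φ : H → A)
    (hm : ∀ g g', φ (g * g') = φ g * φ g') (ho : φ 1 = e) (hi : Function.Injective φ) : Group.IsSolvable H := by
  have a1 : ∀ g, e * φ g = φ g := fun g => by rw [← ho, ← hm, one_mul]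
  have a2 : ∀ g, φ g * e = φ g := fun g => by rw [← ho, ← hm, mul_one]
  have a3 : star e = 1 - e := eq_sub_of_add_eq' h2
  have a4 : ∀ g, e * star (φ g) = 0 := fun g => by
    rw [← a2, star_mul, ← mul_assoc, a3, mul_sub, h1, mul_one, sub_self, zero_mul]
  have a5 : ∀ g, star (φ g) * e = 0 := fun g => by
    rw [← a1, star_mul, mul_assoc, a3, sub_mul, h1, one_mul, sub_self, mul_zero]
  have a6 : ∀ g g', (φ g + star (φ g⁻¹)) * (φ g' + star (φ g'⁻¹)) = φ (g * g') + star (φ (g * g')⁻¹) := fun g g' => by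
    rw [add_mul, mul_add, mul_add, ← hm, ← star_mul, ← hm, mul_inv_rev, ← a2 g, mul_assoc, a4, ← a1 g', ← mul_assoc, a5,
      mul_zero, zero_mul, add_zero, zero_add]
  have a7 : ∀ g, star (φ g + star (φ g⁻¹)) = φ g⁻¹ + star (φ g⁻¹⁻¹) := fun g => by
    rw [star_add, star_star, inv_inv, add_comm]
  have a8 : ∀ g, (φ g + star (φ g⁻¹)) * star (φ g + star (φ g⁻¹)) = 1 := fun g => by
    rw [a7, a6, mul_inv_cancel, inv_one, ho, h2]
  have a9 : ∀ g, (φ g + star (φ g⁻¹)) * e = e * (φ g + star (φ g⁻¹)) := fun g => by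
    rw [add_mul, mul_add, a1, a2, a4, a5]
  let f : H →* ↥(F.Iso ⊓ CU {e, star e}) := MonoidHom.mk' (fun g => ⟨mkU _ (a8 g), ⟨a8 g, by
      have b1 := F.L.sub_mem h3 (F.conj_mem h3 (φ g + star (φ g⁻¹)))
      rw [mul_sub, sub_mul, a9, mul_assoc e, a8, mul_one] at b1
      convert b1 using 1
      rw [mkU_val]
      abel⟩, by
      rintro _ (rfl | rfl)
      · exact a9 g
      · rw [a3, mkU_val, mul_sub, sub_mul, a9, mul_one, one_mul]⟩) fun g g' => Subtype.ext (Units.ext (a6 g g').symm)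
  refine Group.isSolvable_of_isSolvable_injective (f := f) fun g g' b1 => hi ?_
  have b2 : φ g + star (φ g⁻¹) = φ g' + star (φ g'⁻¹) := congrArg (fun u : ↥(F.Iso ⊓ CU {e, star e}) => ((u : Aˣ) : A)) b1
  have b3 := congrArg (e * ·) b2
  simpa only [mul_add, a1, a4, add_zero] using b3

variable {K V : Type} [Field K] [Finite K] [AddCommGroup V] [Module K V] [Finite V] [Nontrivial V] (ψ : A ≃+* End K V)
include ψ

omit [Finite K] [Nontrivial V] in
theorem half_le [Fintype K] {e : A} (h1 : e * e = e) (h2 : e + star e = 1) (h3 : e - F.l ∈ F.L)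
    (hs : Group.IsSolvable ↥(F.Iso ⊓ CU {e, star e})) : finrank K (LinearMap.range (ψ e)) ≤ 1 ∨
      (finrank K (LinearMap.range (ψ e)) = 2 ∧ Fintype.card K ≤ 3) := by
  have a1 : ∀ x : LinearMap.range (ψ e), (ψ e).rangeRestrict x = x := by
    rintro ⟨_, x, rfl⟩
    exact Subtype.ext (by rw [LinearMap.codRestrict_apply, ← End.mul_apply, ← map_mul, h1])
  refine solv_lin (solv_half h1 h2 h3 hs (fun g => ψ.symm ((LinearMap.range (ψ e)).subtype ∘ₗ g.toLinearMap ∘ₗ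
    (ψ e).rangeRestrict)) (fun g g' => ?_) ?_ fun g g' a2 => LinearEquiv.ext fun x => Subtype.ext ?_)
  · rw [← map_mul]
    exact congrArg ψ.symm (LinearMap.ext fun v => by simp [a1])
  · rw [RingEquiv.symm_apply_eq]
    rfl
  · simpa [a1] using LinearMap.congr_fun (ψ.symm.injective a2) x

theorem Tor.half (hZ : Tor F S Z) (h : Cl.Ctx F S) :
    IsF Z ∨ finrank K V ≤ 2 ∨ (finrank K V ≤ 4 ∧ Nat.card K ≤ 3) := by
  have := Fintype.ofFinite K
  refine hZ.cases.symm.imp_right fun ⟨e, he, h1, h2⟩ => ?_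
  have h3 : ¬ ({e, star e} : Set A) ⊆ Subring.center A := fun a1 => by
    have a2 : Eps e := ⟨a1 (Or.inl rfl), h1, h2⟩
    have := h.ss.nontrivial
    obtain ⟨c, rfl⟩ := P5.exists_smul ψ a2.cen
    rw [← map_mul, smul_mul_smul_comm, mul_one] at h1
    rcases IsIdempotentElem.iff_eq_zero_or_one.1 (H277.FC.smul_one_inj (V := V) (ψ.symm.injective h1)) with rfl | rfl
    · exact a2.ne_zero (by simp)
    · exact a2.ne_one (by simp)
  have h4 := solv_CU h (hZ.inv_pair h.le_SAut he h1 h2) h3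
  have h5 : star e + star (star e) = 1 := by rw [star_star, add_comm, h2]
  have h6 := half_le ψ h1 h2 (hZ.sub_l he h2) h4
  have h7 := half_le ψ (e := star e) (by rw [← star_mul, h1]) h5 (hZ.sub_l (hZ.com.2.1 e he) h5)
    (by rwa [star_star, Set.pair_comm])
  have h8 := Submodule.finrank_add_le_finrank_add_finrank (LinearMap.range (ψ e)) (LinearMap.range (ψ (star e)))
  rw [show LinearMap.range (ψ e) ⊔ LinearMap.range (ψ (star e)) = ⊤ from eq_top_iff.2 fun v _ =>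
    Submodule.mem_sup.2 ⟨_, ⟨v, rfl⟩, _, ⟨v, rfl⟩, by rw [← LinearMap.add_apply, ← map_add, h2, map_one]; rfl⟩,
    finrank_top] at h8
  rw [Nat.card_eq_fintype_card]
  omega

/-- **The quadratic subfield.** -/
theorem Tor.step (hZ : Tor F S Z) (h : Cl.Ctx F S) (hf : IsF Z) {t : ℕ} (ht : t ≠ 0)
    (hc : Nat.card Z = (Nat.card K ^ 2) ^ t) : ∃ (W : Subring A) (m : ℕ), Cl.ComSub W ∧ Inv S W ∧ IsF W ∧
      Nat.card W = Nat.card K ^ 2 ∧ finrank K V = 2 * m ∧ Nat.card V = Nat.card W ^ m ∧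
      Cs m (Nat.card K ^ 2) (∃ z ∈ W, star z ≠ z)
        (F.L ≠ Lmax A ∨ ∃ x ∈ Subring.centralizer (W : Set A), x + star x ∉ W) ∧
      ∀ y ∈ Subring.centralizer (W : Set A), (∀ v, ∃ w ∈ W, ψ y v = ψ w v) → y ∈ W := by
  have := h.ss.nontrivial
  have hK : 2 ≤ Nat.card K := Finite.one_lt_card
  obtain ⟨W, h1, h2, h3⟩ := hf.sub ht (by nlinarith) hc
  have h4 : Subring.center A ≤ W := fun c hc => (h1 c).2 ⟨hZ.com.1 hc, by
    obtain ⟨k, rfl⟩ := P5.exists_smul ψ hc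
    have := Fintype.ofFinite K
    rw [← map_pow, smul_pow, one_pow, Nat.card_eq_fintype_card, FiniteField.pow_card_pow]⟩
  have h5 : ∀ x ∈ W, star x ∈ W := fun x hx =>
    (h1 _).2 ⟨hZ.com.2.1 x ((h1 x).1 hx).1, by rw [← star_pow, ((h1 x).1 hx).2]⟩
  have h6 : Inv S W := fun s hs x hx => (h1 _).2 ⟨hZ.inv s hs x ((h1 x).1 hx).1, by rw [← map_pow, ((h1 x).1 hx).2]⟩
  obtain ⟨m, a1, a2, a3, a4, a5⟩ := h2.cent ψ h4
  obtain ⟨l, b1, b2, b3⟩ := hZ.l
  obtain ⟨k, b4, b5⟩ := solv_sub F (ss_of_simple (star_centralizer h5) a3) (l := l)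
    (fun w hw => b1 w ((h1 w).1 hw).1) b2 b3 (solv_CU h h6 fun e => by
      have b4 := AddSubgroup.card_le_of_le (H := W.toAddSubgroup) (K := (Subring.center A).toAddSubgroup) e
      have b5 : Nat.card W ≤ Nat.card (Subring.center A) := b4
      rw [h3, card_center ψ] at b5
      nlinarith) fun u hu hu' => ⟨hu, fun w hw => (hu' w hw).symm⟩
  rw [a4] at b4 b5
  obtain rfl : m = k := Nat.pow_left_injective two_ne_zero
    (Nat.pow_right_injective (Finite.one_lt_card (α := W)) (a2.symm.trans b4))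
  refine ⟨W, m, ⟨h4, h5, h2.comm⟩, h6, h2, h3, Nat.pow_right_injective hK ?_, a1, h3 ▸ b5, a5⟩
  change Nat.card K ^ _ = Nat.card K ^ _
  rw [pow_mul, ← h3, ← a1]
  exact Module.natCard_eq_pow_finrank.symm

end Cfsg.Agent.SB.C2
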