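import Cfsg.Agent.SB.C2.Fix
import Cfsg.Agent.DS.Cl.ExtR
import Cfsg.Agent.DS.Cl.MainG

/-!
# Invariant abelian subgroups with non-commuting lifts, I (helper56)
-/

set_option autoImplicit false

namespace Cfsg.Agent.SB.C2

open Cfsg Cfsg.Agent.DS.Cl
open scoped commutatorElement

variable {A : Type} [Ring A] [StarRing A]

theorem exists_char [Finite A] (hA : SS A) : ∃ p : ℕ, p.Prime ∧ CharP A p := by
  have := hA.nontrivial
  refine ⟨ringChar A, ?_, inferInstance⟩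
  have h0 : ringChar A ≠ 0 := CharP.ringChar_ne_zero_of_finite A
  refine Nat.prime_def.2 ⟨by have := CharP.ringChar_ne_one (R := A); omega, fun m ⟨k, hk⟩ => ?_⟩
  by_cases h1 : (m : A) = 0
  · exact Or.inr (Nat.dvd_antisymm ⟨k, hk⟩ (ringChar.dvd h1))
  · have h2 : (m : A) * k = 0 := by rw [← Nat.cast_mul, ← hk, ringChar.Nat.cast_ringChar]
    rw [(hA.isUnit_of_cen (natCast_mem _ m) (star_natCast m) h1).mul_right_eq_zero] at h2
    obtain ⟨j, hj⟩ := ringChar.dvd h2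
    rw [hj, mul_left_comm, eq_comm, Nat.mul_eq_left h0] at hk
    exact Or.inl (Nat.eq_one_of_mul_eq_one_right hk)

theorem cast_mul_ne (hA : SS A) {a b : ℕ} (ha : (a : A) ≠ 0) (hb : (b : A) ≠ 0) : ((a * b : ℕ) : A) ≠ 0 := by
  rw [Nat.cast_mul, Ne, (hA.isUnit_of_cen (natCast_mem _ a) (star_natCast a) ha).mul_right_eq_zero]
  exact hb

omit [StarRing A] in
theorem cast_ne_of_dvd {a b : ℕ} (h : a ∣ b) (hb : (b : A) ≠ 0) : (a : A) ≠ 0 := by
  obtain ⟨c, rfl⟩ := h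
  exact fun e => hb (by rw [Nat.cast_mul, e, zero_mul])

theorem cast_pow_ne (hA : SS A) {a : ℕ} (ha : (a : A) ≠ 0) (k : ℕ) : ((a ^ k : ℕ) : A) ≠ 0 := by
  have := hA.nontrivial
  rw [Nat.cast_pow]
  exact ((hA.isUnit_of_cen (natCast_mem _ a) (star_natCast a) ha).pow k).ne_zero

theorem card_ne_of_exp [Finite A] (hA : SS A) {G : Subgroup (RingAut A)} {r : ℕ} (hr : r.Prime) (h0 : (r : A) ≠ 0)
    (h : ∀ x ∈ G, x ^ r = 1) : (Nat.card G : A) ≠ 0 := by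
  have : Fact r.Prime := ⟨hr⟩
  have h1 : IsPGroup r G := fun x => ⟨1, Subtype.ext (by rw [pow_one]; exact h x x.2)⟩
  obtain ⟨k, hk⟩ := h1.exists_card_eq
  rw [hk]
  exact cast_pow_ne hA h0 k

theorem L_of_zeta (hA : SS A) (F : FR A) {z : A} (hc : z ∈ Subring.center A) (hs : z * star z = 1) (hne : z ≠ 1) :
    F.L = Lmax A := by
  obtain ⟨w, hw⟩ := Ext.isUnit_sub_one hA hc hs hne
  have hw' : (w : A) ∈ Subring.center A := hw ▸ Subring.sub_mem _ hc (Subring.one_mem _)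
  have h1 : (z - 1) * ((w⁻¹ : Aˣ) : A) = 1 := by rw [← hw, Units.mul_inv]
  have h2 : star ((w⁻¹ : Aˣ) : A) * (star z - 1) = 1 := by
    have := congrArg star h1
    rwa [star_mul, star_sub, star_one] at this
  have h3 : (star z - 1) * (-(z * ((w⁻¹ : Aˣ) : A))) = 1 := by
    calc (star z - 1) * (-(z * ((w⁻¹ : Aˣ) : A))) = (z - star z * z) * ((w⁻¹ : Aˣ) : A) := by noncomm_ring
      _ = 1 := by rw [cen_comm hc, hs, h1]
  have h4 : star ((w⁻¹ : Aˣ) : A) = -(z * ((w⁻¹ : Aˣ) : A)) := by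
    rw [← mul_one (star _), ← h3, ← mul_assoc, h2, one_mul]
  refine F.L_eq (c := -((w⁻¹ : Aˣ) : A)) (Subring.neg_mem _ (inv_cen hw')) ?_
  rw [star_neg, h4, ← h1]
  noncomm_ring

theorem eq_one_of_ppow (hA : SS A) {p : ℕ} (hp : p.Prime) [CharP A p] {z : A} (hc : z ∈ Subring.center A)
    (hs : z * star z = 1) {k : ℕ} (h : z ^ p ^ k = 1) : z = 1 := by
  by_contra hne
  have := hA.nontrivial
  have : Fact p.Prime := ⟨hp⟩
  have h1 := ((Ext.isUnit_sub_one hA hc hs hne).pow (p ^ k)).ne_zero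
  rw [sub_pow_char_pow_of_commute _ _ (Commute.one_right z), h, one_pow, sub_self] at h1
  exact h1 rfl

omit [StarRing A] in
theorem comm_pow_left {u v : Aˣ} (h : cj A u * cj A v = cj A v * cj A u) (k : ℕ) : ⁅u ^ k, v⁆ = ⁅u, v⁆ ^ k := by
  have h1 : ((⁅u, v⁆ : Aˣ) : A) ∈ Subring.center A :=
    cj_eq_one_iff.1 (by rw [map_commutatorElement, commutatorElement_eq_one_iff_mul_comm, h])
  induction k with
  | zero => simp
  | succ k ih =>
    have h2 : ⁅u ^ (k + 1), v⁆ = u * ⁅u ^ k, v⁆ * u⁻¹ * ⁅u, v⁆ := by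
      simp only [commutatorElement_def, pow_succ']; group
    rw [h2, ih, (show Commute u ⁅u, v⁆ from units_comm h1 u).pow_right k, mul_inv_cancel_right, pow_succ]

/-- the lifts -/
def lifts (F : FR A) (Y : Subgroup (RingAut A)) : Set A := {a | ∃ u ∈ F.Iso, cj A u ∈ Y ∧ (u : A) = a}

/-- invariant abelian subgroups of `PI` of order prime to the characteristic -/
structure Ab (F : FR A) (S Y : Subgroup (RingAut A)) : Prop where
  le : Y ≤ F.PI
  comm : ∀ x ∈ Y, ∀ y ∈ Y, x * y = y * x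
  card : (Nat.card Y : A) ≠ 0
  inv : ∀ s ∈ S, ∀ y ∈ Y, s * y * s⁻¹ ∈ Y

/-- there is no invariant subgroup with commuting lifts -/
def NoCom (F : FR A) (S : Subgroup (RingAut A)) : Prop :=
  ∀ G : Subgroup (RingAut A), G ≤ F.PI → (Nat.card G : A) ≠ 0 → (∀ s ∈ S, ∀ y ∈ G, s * y * s⁻¹ ∈ G) →
    (∀ u ∈ F.Iso, ∀ v ∈ F.Iso, cj A u ∈ G → cj A v ∈ G → u * v = v * u) → G = ⊥

variable {F : FR A} {S Y : Subgroup (RingAut A)}

theorem inv_lifts (hS : S ≤ F.Aut) (h : ∀ s ∈ S, ∀ y ∈ Y, s * y * s⁻¹ ∈ Y) : Inv S (lifts F Y) := by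
  rintro s hs _ ⟨u, hu, h1, rfl⟩
  exact ⟨um s u, FR.um_mem_Iso (hS hs) hu, by rw [← conj_cj]; exact h s hs _ h1, rfl⟩

theorem lifts_not_le (hY : Y ≤ F.PI) (h0 : Y ≠ ⊥) : ¬ lifts F Y ⊆ Subring.center A := fun h =>
  h0 (eq_bot_iff.2 fun y hy => by
    obtain ⟨u, hu, rfl⟩ := hY hy
    exact cj_eq_one_iff.2 (h ⟨u, hu, hy, rfl⟩))

theorem mem_CU_lifts (hY : Y ≤ F.PI) {u : Aˣ} : u ∈ CU (lifts F Y) ↔ (u : A) ∈ fixR Y := by
  refine ⟨fun h y hy => ?_, ?_⟩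
  · obtain ⟨v, hv, rfl⟩ := hY hy
    exact cj_eq_of_mul (h _ ⟨v, hv, hy, rfl⟩).symm
  · rintro h _ ⟨v, -, hy, rfl⟩
    rw [← cj_mul_eq v u, h _ hy]

theorem Ab.sub [Finite A] (h : Ab F S Y) {Z : Subgroup (RingAut A)} (hZ : Z ≤ Y)
    (hi : ∀ s ∈ S, ∀ y ∈ Z, s * y * s⁻¹ ∈ Z) : Ab F S Z :=
  ⟨hZ.trans h.le, fun x hx y hy => h.comm x (hZ hx) y (hZ hy), cast_ne_of_dvd (Subgroup.card_dvd_of_le hZ) h.card, hi⟩

theorem Ab.nd [Finite A] (hS : S ≤ F.Aut) (hN : NoCom F S) (h : Ab F S Y) : ND F Y := by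
  let R : Subgroup (RingAut A) := Y ⊓ DS.Cl.Fix (lifts F Y)
  have h1 : Ab F S R := h.sub inf_le_left fun s hs y hy => ⟨h.inv s hs y hy.1, fun a ha => by
    rw [ra_mul, ra_mul, hy.2 _ (inv_lifts hS h.inv _ (inv_mem hs) a ha), ra_apply_inv]⟩
  have h2 := hN R h1.le h1.card h1.inv fun u _ v hv hu' hv' => Units.ext (by
    rw [Units.val_mul, Units.val_mul, ← cj_mul_eq u v, hu'.2 _ ⟨v, hv, hv'.1, rfl⟩])
  refine ⟨h.le, h.comm, h.card, fun y hy h3 => ?_⟩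
  rw [← Subgroup.mem_bot, ← h2]
  exact ⟨hy, by rintro _ ⟨u, hu, hu', rfl⟩; exact h3 u hu hu'⟩

theorem ND.exists_zeta (h : ND F Y) (h0 : Y ≠ ⊥) : ∃ z ∈ Subring.center A, z * star z = 1 ∧ z ≠ 1 := by
  obtain ⟨⟨y, hy⟩, h1⟩ := Subgroup.ne_bot_iff_exists_ne_one.1 h0
  by_contra hcon
  push Not at hcon
  refine h1 (Subtype.ext (h.nd y hy fun u hu hu' => ?_))
  obtain ⟨c, hc, h2, h3⟩ := act_lift (h.le hy) hu (h.comm _ hy _ hu')
  rw [h3, hcon c hc h2, one_mul]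

theorem ND.L_eq (hA : SS A) (h : ND F Y) (h0 : Y ≠ ⊥) : F.L = Lmax A := by
  obtain ⟨z, h1, h2, h3⟩ := h.exists_zeta h0
  exact L_of_zeta hA F h1 h2 h3

variable [Finite A]

theorem Ab.sup (hA : SS A) {E : Subgroup (RingAut A)} (h : Ab F S Y) (hE : Ab F S E)
    (hc : ∀ x ∈ Y, ∀ y ∈ E, x * y = y * x) : Ab F S (Y ⊔ E) := by
  let f : Y × E →* RingAut A := MonoidHom.noncommCoprod Y.subtype E.subtype fun x y => hc x x.2 y y.2
  have h1 : f.range = Y ⊔ E := by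
    rw [show f.range = _ from MonoidHom.noncommCoprod_range _ _ _, Subgroup.range_subtype, Subgroup.range_subtype]
  have h2 : ∀ x ∈ Y ⊔ E, ∃ y ∈ Y, ∃ e ∈ E, x = y * e := fun x hx => by
    rw [← h1] at hx
    obtain ⟨⟨y, e⟩, rfl⟩ := hx
    exact ⟨y, y.2, e, e.2, rfl⟩
  refine ⟨sup_le h.le hE.le, fun x hx x' hx' => ?_, ?_, fun s hs x hx => ?_⟩
  · obtain ⟨y, hy, e, he, rfl⟩ := h2 x hx
    obtain ⟨y', hy', e', he', rfl⟩ := h2 x' hx'
    exact (Commute.mul_right (Commute.mul_left (h.comm y hy y' hy') (hc y' hy' e he).symm)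
      (Commute.mul_left (hc y hy e' he') (hE.comm e he e' he')))
  · rw [← h1]
    refine cast_ne_of_dvd (Subgroup.card_range_dvd f) ?_
    rw [Nat.card_prod]
    exact cast_mul_ne hA h.card hE.card
  · obtain ⟨y, hy, e, he, rfl⟩ := h2 x hx
    rw [← conj_mul]
    exact mul_mem (Subgroup.mem_sup_left (h.inv s hs y hy)) (Subgroup.mem_sup_right (hE.inv s hs e he))

omit [StarRing A] [Finite A] in
/-- the elements of order dividing `r` -/
def om (Y : Subgroup (RingAut A)) (hc : ∀ x ∈ Y, ∀ y ∈ Y, x * y = y * x) (r : ℕ) : Subgroup (RingAut A) where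
  carrier := {x | x ∈ Y ∧ x ^ r = 1}
  mul_mem' := fun {x y} hx hy => ⟨Y.mul_mem hx.1 hy.1, by
    rw [Commute.mul_pow (hc x hx.1 y hy.1), hx.2, hy.2, mul_one]⟩
  one_mem' := ⟨Y.one_mem, one_pow _⟩
  inv_mem' := fun {x} hx => ⟨Y.inv_mem hx.1, by rw [inv_pow, hx.2, inv_one]⟩

omit [StarRing A] [Finite A] in
theorem inv_om {hc : ∀ x ∈ Y, ∀ y ∈ Y, x * y = y * x} (h : ∀ s ∈ S, ∀ y ∈ Y, s * y * s⁻¹ ∈ Y) (r : ℕ) :
    ∀ s ∈ S, ∀ y ∈ om Y hc r, s * y * s⁻¹ ∈ om Y hc r :=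
  fun s hs y hy => ⟨h s hs y hy.1, by rw [conj_pow, hy.2, mul_one, mul_inv_cancel]⟩

section ctx

variable (h : Cl.Ctx F S) (hN : NoCom F S) (hY : Ab F S Y)
include h hN hY

theorem Ab.solv (h0 : Y ≠ ⊥) {n : ℕ} (hn : Nat.card A = Nat.card (Subring.center A) ^ (n ^ 2)) :
    ∃ k, n ^ 2 = k ^ 2 * Nat.card Y ∧ Cs k (Nat.card (Subring.center A)) (∃ z ∈ Subring.center A, star z ≠ z) True := by
  obtain ⟨k, h1, -, h2⟩ := (hY.nd h.le hN).solv h.ss hn
    (solv_CU h (inv_lifts h.le hY.inv) (lifts_not_le hY.le h0)) fun u hu hu' => ⟨hu, (mem_CU_lifts hY.le).2 hu'⟩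
  exact ⟨k, h1, h2.imp Iff.rfl fun _ => trivial⟩

/-- **A maximal invariant abelian subgroup fixes only the centre.** -/
theorem Ab.fix_eq (h0 : Y ≠ ⊥) (hm : ∀ Y', Ab F S Y' → Y ≤ Y' → Y' ≤ Y) : fixR Y = Subring.center A := by
  have hA := h.ss
  have hnd := hY.nd h.le hN
  have hL := hnd.L_eq hA h0
  obtain ⟨p, hp, _⟩ := exists_char hA
  have hW := inv_lifts h.le hY.inv
  set I : Subgroup Aˣ := F.Iso ⊓ CU (lifts F Y) with hI
  have hIS : ∀ s ∈ S, ∀ u ∈ I, um s u ∈ I := fun s hs u hu => ⟨FR.um_mem_Iso (h.le hs) hu.1,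
    (mem_CU_lifts hY.le).2 (inv_fixR hY.inv s hs _ ((mem_CU_lifts hY.le).1 hu.2))⟩
  have hE : ∀ E, E ≤ I.map (cj A) → Ab F S E → E = ⊥ := by
    intro E h1 h2
    have h3 : ∀ y ∈ E, ∀ v ∈ F.Iso, cj A v ∈ Y → y v = v := fun y hy v hv hv' => by
      obtain ⟨u, hu, rfl⟩ := h1 hy
      exact cj_eq_of_mul (hu.2 _ ⟨v, hv, hv', rfl⟩)
    have h4 := hm _ (hY.sup hA h2 fun x hx y hy => by
      obtain ⟨v, hv, rfl⟩ := hY.le hx
      rw [eq_comm, ← mul_inv_eq_iff_eq_mul, conj_cj]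
      exact congrArg (cj A) (Units.ext (h3 y hy v hv hx))) le_sup_left
    exact eq_bot_iff.2 fun y hy => hnd.nd y (h4 (Subgroup.mem_sup_right hy)) (h3 y hy)
  have hD : (⁅I, I⁆ : Subgroup Aˣ).map (cj A) = ⊥ := by
    by_contra h1
    have h2 := key_comm h hW (lifts_not_le hY.le h0)
    obtain ⟨X, a1, a2, a3, -, a5, ⟨r, hr, a6⟩, -⟩ := SB.exists_min h.solv h1 (h2.trans inf_le_left) (by
      rintro s hs _ ⟨u, hu, rfl⟩
      refine ⟨um s u, ?_, (conj_cj s u).symm⟩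
      have h3 : I.map (um s) ≤ I := by rintro _ ⟨v, hv, rfl⟩; exact hIS s hs v hv
      exact Subgroup.commutator_mono h3 h3 (by rw [← Subgroup.map_commutator]; exact ⟨u, hu, rfl⟩))
    refine a2 (hE X (a1.trans (Subgroup.map_mono (Subgroup.commutator_le_self _)))
      ⟨(a1.trans h2).trans (inf_le_right.trans F.S_le_PI), a5, card_ne_of_exp hA hr (fun h4 => a2 ?_) a6, a3⟩)
    exact h.npar r hr h4 X (a1.trans h2) (fun x => ⟨1, Subtype.ext (by rw [pow_one]; exact a6 x x.2)⟩) a3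
  have hG : ∀ x ∈ I.map (cj A), ∀ y ∈ I.map (cj A), x * y = y * x := by
    rintro _ ⟨u, hu, rfl⟩ _ ⟨v, hv, rfl⟩
    rw [← commutatorElement_eq_one_iff_mul_comm, ← map_commutatorElement, ← Subgroup.mem_bot, ← hD]
    exact ⟨_, Subgroup.commutator_mem_commutator hu hv, rfl⟩
  have hP : ∀ u ∈ I, ∃ k, ((u ^ p ^ k : Aˣ) : A) ∈ Subring.center A := by
    intro u hu
    have h1 : orderOf (cj A u) ≠ 0 := (orderOf_pos _).ne'
    obtain ⟨k, m, h2, h3⟩ := Nat.exists_eq_pow_mul_and_not_dvd h1 p hp.ne_one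
    refine ⟨k, cj_eq_one_iff.1 ?_⟩
    by_contra h4
    have h5 : m ≠ 1 := fun e => h4 (by rw [map_pow, ← mul_one (p ^ k), ← e, ← h3, pow_orderOf_eq_one])
    obtain ⟨r, hr, j, hj⟩ := Nat.exists_prime_and_dvd h5
    have h6 : (r : A) ≠ 0 := fun e => h2 (((CharP.cast_eq_zero_iff A p r).1 e).trans ⟨j, hj⟩)
    have h7 := hE (om _ hG r) (fun _ hx => hx.1) ⟨fun _ hx => Subgroup.map_mono inf_le_left hx.1,
      fun x hx y hy => hG x hx.1 y hy.1, card_ne_of_exp hA hr h6 fun _ hx => hx.2, inv_om (by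
        rintro s hs _ ⟨v, hv, rfl⟩
        exact ⟨um s v, hIS s hs v hv, (conj_cj s v).symm⟩) r⟩
    have h8 : cj A u ^ (p ^ k * j) ∈ om _ hG r := ⟨pow_mem (Subgroup.mem_map_of_mem _ hu) _, by
      rw [← pow_mul, mul_assoc, mul_comm j, ← hj, ← h3, pow_orderOf_eq_one]⟩
    rw [h7, Subgroup.mem_bot, ← orderOf_dvd_iff_pow_eq_one, h3, hj] at h8
    have h9 : 0 < j := Nat.pos_of_ne_zero fun e => h1 (by rw [h3, hj, e, mul_zero, mul_zero])
    have h10 := Nat.le_of_dvd h9 (Nat.dvd_of_mul_dvd_mul_left (pow_pos hp.pos k) h8)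
    have := hr.two_le
    nlinarith
  have hC : ∀ u ∈ I, ∀ v ∈ I, u * v = v * u := by
    intro u hu v hv
    obtain ⟨k, hk⟩ := hP u hu
    have h1 := hG _ ⟨u, hu, rfl⟩ _ ⟨v, hv, rfl⟩
    rw [← commutatorElement_eq_one_iff_mul_comm]
    refine Units.ext (eq_one_of_ppow hA hp (k := k) (cj_eq_one_iff.1 ?_)
      (FR.Iso.ms (mul_mem (mul_mem (mul_mem hu.1 hv.1) (inv_mem hu.1)) (inv_mem hv.1))) ?_)
    · rw [map_commutatorElement, commutatorElement_eq_one_iff_mul_comm, h1]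
    · rw [← Units.val_pow_eq_pow_val, ← comm_pow_left h1, commutatorElement_eq_one_iff_mul_comm.2 (units_comm hk v).symm,
        Units.val_one]
  have hmk : ∀ x ∈ fixR Y, ∀ hx : x * star x = 1, mkU x hx ∈ I := fun x hx hx' =>
    ⟨P5.mem_Iso_of_max hL hx', (mem_CU_lifts hY.le).2 hx⟩
  rw [← hnd.cen_eq hA]
  refine le_antisymm (fun x hx => ⟨hx, fun y hy => ?_⟩) fun x hx => hx.1
  by_contra hne
  let B := Blk.ofSubring (fixR Y) (star_fixR hnd.le_SAut)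
  rcases nc2 (hnd.ss hA) ⟨B.mk' y hy, B.mk' x hx, fun e => hne (congrArg B.val e)⟩ with
    ⟨f, h1, h2, h3⟩ | ⟨u, v, h1, h2, h3⟩
  · have h4 : star (B.val f) = B.val f := congrArg B.val h1
    have h5 : B.val f * B.val f = B.val f := congrArg B.val h2
    have h6 : B.val f ∉ Subring.center A := fun e => h3 (B.mem_center_iff.2 fun y _ => cen_comm e y)
    have h7 : B.val f ∈ fixR Y := B.val_mem f
    generalize B.val f = g at h4 h5 h6 h7
    obtain ⟨z, hz, h8, h9⟩ := hnd.exists_zeta h0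
    have h10 : ∀ a b : A, b ∈ Subring.center A → (g + a * (1 - g)) * (g + b * (1 - g)) = g + a * b * (1 - g) := by
      intro a b hb
      have e1 : g * (b * (1 - g)) = 0 := by rw [← mul_assoc, cen_comm hb, mul_assoc, mul_sub, mul_one, h5, sub_self, mul_zero]
      have e2 : (1 - g) * (b * (1 - g)) = b * (1 - g) := by rw [sub_mul, e1, one_mul, sub_zero]
      rw [add_mul, mul_add, mul_add, e1, h5, mul_assoc, mul_assoc, e2, sub_mul, one_mul, h5, sub_self, mul_zero, add_zero,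
        zero_add, mul_assoc]
    have h11 : (g + z * (1 - g)) * star (g + z * (1 - g)) = 1 := by
      rw [star_add, star_mul, star_sub, star_one, h4, cen_comm (star_cen hz), h10 _ _ (star_cen hz), h8, one_mul,
        add_sub_cancel]
    obtain ⟨k, hk⟩ := hP _ (hmk _ (add_mem h7 (mul_mem (hnd.cen_le hz) (sub_mem (one_mem _) h7))) h11)
    have h12 : ∀ j : ℕ, (g + z * (1 - g)) ^ j = g + z ^ j * (1 - g) := by
      intro j
      induction j with
      | zero => simp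
      | succ j ih => rw [pow_succ, ih, h10 _ _ hz, pow_succ]
    rw [Units.val_pow_eq_pow_val, mkU_val, h12] at hk
    have h13 : z ^ p ^ k ∈ Subring.center A := pow_mem hz _
    obtain ⟨w, hw⟩ := Ext.isUnit_sub_one hA h13
      (by rw [star_pow, ← (show Commute z (star z) from (cen_comm hz _).symm).mul_pow, h8, one_pow])
      fun e => h9 (eq_one_of_ppow hA hp hz h8 e)
    have h14 : g = (w⁻¹ : Aˣ) * (z ^ p ^ k - (g + z ^ p ^ k * (1 - g))) := by
      rw [Units.eq_inv_mul_iff_mul_eq, hw]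
      noncomm_ring
    exact h6 (h14 ▸ mul_mem (inv_cen (hw ▸ sub_mem h13 (one_mem _))) (sub_mem h13 hk))
  · exact h3 (B.val_inj (congrArg Units.val (hC _ (hmk _ (B.val_mem u) (congrArg B.val h1)) _
      (hmk _ (B.val_mem v) (congrArg B.val h2)))))

/-- the exponent is a prime -/
theorem Ab.exp {n : ℕ} (hn : Nat.card A = Nat.card (Subring.center A) ^ (n ^ 2)) (hc : Nat.card Y = n ^ 2) {r : ℕ}
    (hr : r.Prime) (h0 : ∃ x ∈ Y, x ≠ 1 ∧ x ^ r = 1) : ∀ x ∈ Y, x ^ r = 1 := by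
  have : Fact r.Prime := ⟨hr⟩
  let f : Y →* RingAut A := MonoidHom.mk' (fun y => (y : RingAut A) ^ r) fun x y =>
    Commute.mul_pow (hY.comm x x.2 y y.2) r
  have hP : Ab F S f.range := hY.sub (by rintro _ ⟨y, rfl⟩; exact pow_mem y.2 r) (by
    rintro s hs _ ⟨y, rfl⟩
    exact ⟨⟨_, hY.inv s hs y y.2⟩, conj_pow⟩)
  have hO : Ab F S (om Y hY.comm r) := hY.sub (fun _ hx => hx.1) (inv_om hY.inv r)
  by_contra hcon
  have h1 : f.range ≠ ⊥ := fun e => hcon fun x hx => by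
    rw [← Subgroup.mem_bot, ← e]
    exact ⟨⟨x, hx⟩, rfl⟩
  have h2 : om Y hY.comm r ≠ ⊥ := fun e => by
    obtain ⟨x, hx, h3, h4⟩ := h0
    exact h3 (by rw [← Subgroup.mem_bot, ← e]; exact ⟨hx, h4⟩)
  have h3 : Nat.card (om Y hY.comm r) * Nat.card f.range = n ^ 2 := by
    rw [← hc, ← Subgroup.card_mul_index f.ker, Subgroup.index_ker]
    congr 1
    exact Nat.card_congr ⟨fun x => ⟨⟨x, x.2.1⟩, x.2.2⟩, fun x => ⟨x.1, x.1.2, x.2⟩, fun _ => rfl, fun _ => rfl⟩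
  have h4 : ¬ r ∣ Nat.card f.range := by
    intro hd
    obtain ⟨⟨x, hx⟩, h5⟩ := exists_prime_orderOf_dvd_card' r hd
    have h6 : x ^ r = 1 := by rw [← h5]; exact congrArg Subtype.val (pow_orderOf_eq_one (⟨x, hx⟩ : f.range))
    have h7 : x = 1 := (hP.nd h.le hN).nd x hx fun u hu hu' => by
      obtain ⟨y, hy⟩ := hu'
      obtain ⟨v, hv, h8⟩ := hY.le y.2
      obtain ⟨w, -, rfl⟩ := hP.le hx
      obtain ⟨z, hz, rfl⟩ := cj_eq_iff.1 (show cj A u = cj A (v ^ r) by rw [← hy, map_pow, h8]; rfl)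
      have h9 : cj A w * cj A v = cj A v * cj A w := by
        obtain ⟨y', h10⟩ := hx
        rw [h8, ← h10]
        exact hY.comm _ (pow_mem y'.2 r) _ y.2
      have h10 : ⁅v ^ r, w⁆ = 1 := by
        rw [comm_pow_left h9.symm, ← commutatorElement_inv, inv_pow, ← comm_pow_left h9,
          commutatorElement_eq_one_iff_mul_comm.2 (units_comm (cj_eq_one_iff.1 (by rw [map_pow, h6])) v).symm, inv_one]
      refine cj_eq_of_mul ?_
      rw [← Units.val_mul, ← Units.val_mul, ← mul_assoc, ← commutatorElement_eq_one_iff_mul_comm.1 h10, mul_assoc,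
        units_comm hz w, mul_assoc]
    rw [show (⟨x, hx⟩ : f.range) = 1 from Subtype.ext h7, orderOf_one] at h5
    exact hr.one_lt.ne h5
  have h5 : r ∣ Nat.card (om Y hY.comm r) := by
    have h6 : IsPGroup r (om Y hY.comm r) := fun x => ⟨1, Subtype.ext (by rw [pow_one]; exact x.2.2)⟩
    exact (h6.card_eq_or_dvd).resolve_left (mt Subgroup.card_eq_one.1 h2)
  obtain ⟨k, h6, h7⟩ := hO.solv h hN h2 hn
  obtain ⟨k', h8, h9⟩ := hP.solv h hN h1 hn
  have h10 : Nat.card f.range = k ^ 2 := Nat.eq_of_mul_eq_mul_left Nat.card_pos (by rw [h3, h6, mul_comm])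
  have h11 : Nat.card (om Y hY.comm r) = k' ^ 2 := Nat.eq_of_mul_eq_mul_right Nat.card_pos (by rw [h3, h8])
  have h12 : k ≠ 1 := fun e => h1 (Subgroup.card_eq_one.1 (by rw [h10, e]; rfl))
  rw [h11] at h5
  rw [h10] at h4
  have h13 := hr.dvd_of_dvd_pow h5
  have h14 : ¬ r ∣ k := fun e => h4 (dvd_pow e two_ne_zero)
  have h15 := hY.card
  rw [hc, ← h3, h10, h11] at h15
  have h16 : ¬ Nat.card (Subring.center A) ∣ k' ^ 2 * k ^ 2 := fun e => cast_ne_of_dvd e h15 (by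
    have := congrArg Subtype.val (card_nsmul_eq_zero' (x := (1 : Subring.center A)))
    simpa using this)
  have h17 := hr.two_le
  have h18 : ∀ j, r ∣ j → 0 < j → r ≤ j := fun j hj h => Nat.le_of_dvd h hj
  generalize Nat.card (Subring.center A) = c at h7 h9 h16
  rcases h7 with h7 | ⟨rfl, -⟩ | ⟨rfl, h7⟩ | ⟨rfl, -⟩
  · exact h12 h7
  all_goals rcases h9 with rfl | ⟨rfl, -⟩ | ⟨rfl, h9⟩ | ⟨rfl, -⟩
  all_goals have h19 := h18 _ h13 (by norm_num)
  all_goals first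
    | omega
    | exact h14 h13
    | (rcases h9 with ⟨rfl, -⟩ | ⟨rfl, -⟩ <;> exact h16 (by norm_num))
    | (rcases h7 with ⟨rfl, -⟩ | ⟨rfl, -⟩ <;> exact h16 (by norm_num))
    | (interval_cases r <;> omega)

end ctx

end Cfsg.Agent.SB.C2
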