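import Cfsg.Agent.SB.C2.Solv
import Cfsg.Agent.SB.Cl.Basic
import Cfsg.Agent.DS.Cl.ExtC

/-!
# Fixed rings of groups of order prime to the characteristic (helper56)
-/

set_option autoImplicit false

namespace Cfsg.Agent.SB.C2

open Cfsg Cfsg.Agent.DS.Cl
open scoped commutatorElement

theorem solv_iff {G : Type*} [Group G] {M : Subgroup G} : Group.IsSolvable M ↔ ∃ k, dS M k = ⊥ := by
  rw [Group.isSolvable_def]
  refine exists_congr fun k => ?_
  rw [← DS.Cl.map_derivedSeries_eq, Subgroup.map_eq_bot_iff_of_injective _ M.subtype_injective]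

variable {A : Type} [Ring A] [StarRing A]

omit [StarRing A] in
theorem solv_of_comm {U : Subgroup Aˣ} {S : Subgroup (RingAut A)} (hS : Group.IsSolvable S)
    (h : (⁅U, U⁆ : Subgroup Aˣ).map (cj A) ≤ S) : Group.IsSolvable U := by
  obtain ⟨k, hk⟩ := solv_iff.1 hS
  refine solv_iff.2 ⟨1 + k + 1, ?_⟩
  have h1 : (dS U (1 + k)).map (cj A) = ⊥ := by
    rw [← dS_add, dS_map, eq_bot_iff, ← hk]
    exact dS_mono h k
  rw [← dS_add]
  refine dS_one_eq_bot fun x _ y hy => units_comm (cj_eq_one_iff.1 ?_) x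
  exact (Subgroup.map_eq_bot_iff _).1 h1 hy

omit [StarRing A] in
/-- the units commuting with a set -/
def CU (W : Set A) : Subgroup Aˣ where
  carrier := {u | ∀ w ∈ W, (u : A) * w = w * u}
  mul_mem' := fun {u v} hu hv w hw => by
    rw [Units.val_mul, mul_assoc, hv w hw, ← mul_assoc, hu w hw, mul_assoc]
  one_mem' := fun w _ => by simp
  inv_mem' := fun {u} hu w hw => by
    rw [Units.inv_mul_eq_iff_eq_mul, ← mul_assoc, hu w hw, Units.mul_inv_cancel_right]

omit [StarRing A] in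
/-- the fixed ring -/
def fixR (G : Subgroup (RingAut A)) : Subring A where
  carrier := {x | ∀ g ∈ G, g x = x}
  mul_mem' := fun ha hb g hg => by rw [map_mul, ha g hg, hb g hg]
  one_mem' := fun g _ => map_one g
  add_mem' := fun ha hb g hg => by rw [map_add, ha g hg, hb g hg]
  zero_mem' := fun g _ => map_zero g
  neg_mem' := fun ha g hg => by rw [map_neg, ha g hg]

theorem star_fixR {G : Subgroup (RingAut A)} (hG : G ≤ SAut A) : ∀ x ∈ fixR G, star x ∈ fixR G :=
  fun x hx g hg => by rw [hG hg, hx g hg]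

omit [StarRing A] in
theorem inv_fixR {G S : Subgroup (RingAut A)} (h : ∀ s ∈ S, ∀ g ∈ G, s * g * s⁻¹ ∈ G) : Inv S (fixR G) := by
  intro s hs x hx g hg
  have h1 := congrArg s (hx _ (h _ (inv_mem hs) g hg))
  rwa [inv_inv, ra_mul, ra_mul, ra_apply_inv] at h1

omit [StarRing A] in
theorem cen_le_fixR {G : Subgroup (RingAut A)} (hG : G ≤ Lin A) : Subring.center A ≤ fixR G :=
  fun x hx _ hg => hG hg x hx

section key

variable [Finite A] {F : FR A} {S : Subgroup (RingAut A)} (h : Cl.Ctx F S)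
include h

theorem key {W : Set A} (hW : Inv S W) (h0 : ¬ W ⊆ Subring.center A) {t : RingAut A} (ht : t ∈ F.S)
    (hf : ∀ x ∈ W, t x = x) : t ∈ S := by
  by_cases h1 : t = 1
  · rw [h1]; exact one_mem _
  exact h.mem_of_inv hW (fun h2 => h0 (h.cen_of_inv h2 ⟨t, ht, h1, hf⟩)) ht fun x hx => by rw [hf x hx]; exact hx

theorem key_comm {W : Set A} (hW : Inv S W) (h0 : ¬ W ⊆ Subring.center A) :
    (⁅F.Iso ⊓ CU W, F.Iso ⊓ CU W⁆ : Subgroup Aˣ).map (cj A) ≤ S ⊓ F.S := by
  rintro _ ⟨u, hu, rfl⟩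
  have h1 : cj A u ∈ F.S := ⟨u, Subgroup.commutator_mono inf_le_left inf_le_left hu, rfl⟩
  refine ⟨key h hW h0 h1 fun x hx => cj_eq_of_mul ?_, h1⟩
  exact (Subgroup.commutator_le_self _ hu).2 x hx

/-- **The centralizer of an invariant non-central set is solvable.** -/
theorem solv_CU {W : Set A} (hW : Inv S W) (h0 : ¬ W ⊆ Subring.center A) : Group.IsSolvable ↥(F.Iso ⊓ CU W) :=
  solv_of_comm h.solv ((key_comm h hW h0).trans inf_le_left)

end key

/-! ### Averaging -/

theorem exists_natinv [Finite A] (h : SS A) {N : ℕ} (hN : (N : A) ≠ 0) : ∃ m : ℕ, m • N • (1 : A) = 1 := by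
  obtain ⟨u, hu⟩ := h.isUnit_of_cen (natCast_mem _ N) (star_natCast N) hN
  refine ⟨N ^ (orderOf u - 1), ?_⟩
  rw [smul_smul, nsmul_one, ← pow_succ, Nat.sub_add_cancel (orderOf_pos u), Nat.cast_pow, ← hu, ← Units.val_pow_eq_pow_val,
    pow_orderOf_eq_one, Units.val_one]

omit [StarRing A] in
/-- the averaging operator -/
def avg (G : Subgroup (RingAut A)) [Fintype G] (m : ℕ) : A →+ A where
  toFun a := m • ∑ g : G, (g : RingAut A) a
  map_zero' := by simp
  map_add' a b := by simp only [map_add, Finset.sum_add_distrib, smul_add]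

section avg

variable {G : Subgroup (RingAut A)} [Fintype G] {m : ℕ}

omit [StarRing A] in
theorem avg_apply (a : A) : avg G m a = m • ∑ g : G, (g : RingAut A) a := rfl

omit [StarRing A] in
theorem avg_mem (a : A) : avg G m a ∈ fixR G := by
  intro g hg
  rw [avg_apply, map_nsmul, map_sum]
  congr 1
  exact Fintype.sum_equiv (Equiv.mulLeft (⟨g, hg⟩ : G)) _ _ fun _ => rfl

omit [StarRing A] in
theorem avg_inv {g : RingAut A} (hg : g ∈ G) (a : A) : avg G m (g a) = avg G m a := by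
  rw [avg_apply, avg_apply]
  congr 1
  exact Fintype.sum_equiv (Equiv.mulRight (⟨g, hg⟩ : G)) _ _ fun _ => rfl

omit [StarRing A] in
theorem avg_left {x : A} (hx : x ∈ fixR G) (a : A) : avg G m (x * a) = x * avg G m a := by
  rw [avg_apply, avg_apply, mul_smul_comm, Finset.mul_sum]
  congr 1
  exact Finset.sum_congr rfl fun g _ => by rw [map_mul, hx g g.2]

omit [StarRing A] in
theorem avg_right {x : A} (hx : x ∈ fixR G) (a : A) : avg G m (a * x) = avg G m a * x := by
  rw [avg_apply, avg_apply, smul_mul_assoc, Finset.sum_mul]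
  congr 1
  exact Finset.sum_congr rfl fun g _ => by rw [map_mul, hx g g.2]

theorem avg_star (hG : G ≤ SAut A) (a : A) : avg G m (star a) = star (avg G m a) := by
  rw [avg_apply, avg_apply, star_nsmul, star_sum]
  congr 1
  exact Finset.sum_congr rfl fun g _ => hG g.2 a

variable (hm : m • Nat.card G • (1 : A) = 1)
include hm

omit [StarRing A] in
theorem avg_sub (H : AddSubgroup A) {a b : A} (h : ∀ g ∈ G, g a - b ∈ H) : avg G m a - b ∈ H := by
  have h1 : b = m • ∑ _g : G, b := by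
    rw [Finset.sum_const, Finset.card_univ, ← Nat.card_eq_fintype_card, ← one_mul b, ← smul_mul_assoc, ← smul_mul_assoc,
      hm]
  rw [avg_apply, h1, ← smul_sub, ← Finset.sum_sub_distrib]
  exact H.nsmul_mem (H.sum_mem fun (g : G) _ => h g g.2) m

omit [StarRing A] in
theorem avg_fix {a : A} (ha : a ∈ fixR G) : avg G m a = a :=
  sub_eq_zero.1 (avg_sub hm ⊥ fun g hg => by rw [ha g hg, sub_self]; exact zero_mem _)

end avg

variable [Finite A]

/-- **The fixed ring is star-simple** if it has no proper central symmetric idempotents. -/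
theorem ss_fix (hA : SS A) {G : Subgroup (RingAut A)} (hG : G ≤ SAut A) (hc : (Nat.card G : A) ≠ 0)
    (hi : ∀ e ∈ cenOf (fixR G), star e = e → e * e = e → e = 0 ∨ e = 1) :
    SS (Blk.ofSubring (fixR G) (star_fixR hG)).T := by
  have := hA.nontrivial
  have := Fintype.ofFinite G
  obtain ⟨m, hm⟩ := exists_natinv hA hc
  refine Blk.ss_of _ one_ne_zero fun I h1 h2 h3 => ?_
  obtain ⟨e, he, -, h4⟩ := hA.exists_idem (Ideal.span (I : Set A))
  have h5 : ∀ y ∈ Ideal.span (I : Set A), ∀ a, avg G m (a * y) ∈ I := by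
    intro y hy
    induction hy using Submodule.span_induction with
    | mem y hy => exact fun a => by rw [avg_right (h1 y hy)]; exact h2 y hy _ (avg_mem a)
    | zero => exact fun a => by rw [mul_zero, map_zero]; exact I.zero_mem
    | add y z _ _ hy hz => exact fun a => by rw [mul_add, map_add]; exact I.add_mem (hy a) (hz a)
    | smul c y _ hy => exact fun a => by rw [smul_eq_mul, ← mul_assoc]; exact hy _
  have hf : avg G m e ∈ I := by simpa using h5 e he 1
  have h6 : ∀ x ∈ I, x * avg G m e = x := by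
    intro x hx
    have h7 : avg G m e - 1 ∈ (AddMonoidHom.mulLeft x).ker := avg_sub hm _ fun g hg => by
      show x * (g e - 1) = 0
      rw [mul_sub, mul_one, ← h1 x hx g hg, ← map_mul, h4 x (Ideal.subset_span hx), sub_self]
    have h8 : x * (avg G m e - 1) = 0 := h7
    rwa [mul_sub, mul_one, sub_eq_zero] at h8
  generalize avg G m e = f at hf h6
  have h7 : star f = f := by
    have h8 := congrArg star (h6 _ (h3 f hf))
    rw [star_mul, star_star, h6 _ (h3 f hf)] at h8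
    exact h8
  have h8 : ∀ b ∈ fixR G, f * b * f = f * b := fun b hb => h6 _ (by
    have h9 := h3 _ (h2 _ hf _ (star_fixR hG b hb))
    rwa [star_mul, star_star, h7] at h9)
  rcases hi f ⟨h1 f hf, fun b hb => by
      have h9 := congrArg star (h8 _ (star_fixR hG b hb))
      simp only [star_mul, star_star, h7] at h9
      rw [← h9, ← mul_assoc, h8 b hb]⟩ h7 (h6 f hf) with h9 | h9
  · exact Or.inl (eq_bot_iff.2 fun x hx => by rw [← h6 x hx, h9, mul_zero]; exact zero_mem _)
  · exact Or.inr (show (1 : A) ∈ I from h9 ▸ hf)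

theorem exists_l (hA : SS A) {F : FR A} {G : Subgroup (RingAut A)} (hG : G ≤ F.Aut) (hc : (Nat.card G : A) ≠ 0) :
    ∃ l ∈ fixR G, l + star l = 1 ∧ l - F.l ∈ F.L := by
  have := Fintype.ofFinite G
  obtain ⟨m, hm⟩ := exists_natinv hA hc
  refine ⟨avg G m F.l, avg_mem _, ?_, avg_sub hm _ fun g hg => (hG hg).2⟩
  rw [← avg_star (hG.trans F.Aut_le_SAut), ← map_add, F.l_add, avg_fix hm (one_mem _)]

/-! ### Non-degenerate abelian groups -/

omit [Finite A] in
/-- an abelian subgroup of `PI` with non-degenerate commutator form, of order prime to the characteristic -/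
structure ND (F : FR A) (Y : Subgroup (RingAut A)) : Prop where
  le : Y ≤ F.PI
  comm : ∀ x ∈ Y, ∀ y ∈ Y, x * y = y * x
  card : (Nat.card Y : A) ≠ 0
  nd : ∀ y ∈ Y, (∀ u ∈ F.Iso, cj A u ∈ Y → y u = u) → y = 1

omit [Finite A] in
theorem act_lift {F : FR A} {g : RingAut A} (hg : g ∈ F.PI) {u : Aˣ} (hu : u ∈ F.Iso) (hc : g * cj A u = cj A u * g) :
    ∃ c ∈ Subring.center A, c * star c = 1 ∧ g u = c * u := by
  obtain ⟨v, hv, rfl⟩ := hg
  refine ⟨(⁅v, u⁆ : Aˣ), cj_eq_one_iff.1 ?_, FR.Iso.ms (mul_mem (mul_mem (mul_mem hv hu) (inv_mem hv)) (inv_mem hu)), ?_⟩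
  · rw [map_commutatorElement, commutatorElement_eq_one_iff_mul_comm, hc]
  · rw [cj_apply, commutatorElement_def]
    simp

namespace ND

variable {F : FR A} {Y : Subgroup (RingAut A)} (hA : SS A) (h : ND F Y)
include h

omit [Finite A] in
theorem le_Aut : Y ≤ F.Aut := h.le.trans F.PI_le_Aut

omit [Finite A] in
theorem le_SAut : Y ≤ SAut A := h.le_Aut.trans F.Aut_le_SAut

omit [Finite A] in
theorem cen_le : Subring.center A ≤ fixR Y := cen_le_fixR (h.le.trans F.PI_le_Lin)

include hA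

omit [Finite A] in
theorem avg_lift [Fintype Y] (m : ℕ) {u : Aˣ} (hu : u ∈ F.Iso) (h1 : cj A u ∈ Y) (h2 : cj A u ≠ 1) :
    avg Y m u = 0 := by
  obtain ⟨v, hv, h3, h4⟩ : ∃ v ∈ F.Iso, cj A v ∈ Y ∧ cj A u v ≠ v := by
    by_contra hcon
    push Not at hcon
    exact h2 (h.nd _ h1 hcon)
  obtain ⟨c, hc, h5, h6⟩ := act_lift (h.le h3) hu (h.comm _ h3 _ h1)
  have h7 : c ≠ 1 := by
    rintro rfl
    refine h4 (cj_eq_of_mul ?_)
    rw [← cj_mul_eq v u, h6, one_mul]
  have h8 := avg_inv (m := m) h3 u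
  rw [h6, avg_left (h.cen_le hc), ← sub_eq_zero, ← sub_one_mul] at h8
  exact (Ext.isUnit_sub_one hA hc h5 h7).mul_right_eq_zero.1 h8

omit [Finite A] in
theorem decomp [Fintype Y] {m : ℕ} (hm : m • Nat.card Y • (1 : A) = 1) {s : Y → Aˣ} (hs : ∀ y, s y ∈ F.Iso)
    (hs' : ∀ y, cj A (s y) = y) (a : A) : ∑ y, avg Y m (a * ((s y)⁻¹ : Aˣ)) * s y = a := by
  classical
  have h1 : ∀ g : Y, ∑ y, (g : RingAut A) ((s y)⁻¹ : Aˣ) * s y = if g = 1 then Nat.card Y • (1 : A) else 0 := by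
    intro g
    split_ifs with h2
    · rw [h2, Nat.card_eq_fintype_card, ← Finset.card_univ, ← Finset.sum_const]
      exact Finset.sum_congr rfl fun y _ => Units.inv_mul _
    obtain ⟨v, hv, h3, h4⟩ : ∃ v ∈ F.Iso, cj A v ∈ Y ∧ g.1 v ≠ v := by
      by_contra hcon
      push Not at hcon
      exact h2 (Subtype.ext (h.nd _ g.2 hcon))
    have h5 : ∀ u ∈ F.Iso, cj A u ∈ Y → ∃ c ∈ Subring.center A, c * star c = 1 ∧ g.1 (u⁻¹ : Aˣ) * u = c := by
      intro u hu hu'
      obtain ⟨c, hc, h5, h6⟩ := act_lift (h.le g.2) (inv_mem hu) (h.comm _ g.2 _ (by rw [map_inv]; exact inv_mem hu'))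
      exact ⟨c, hc, h5, by rw [h6, Units.inv_mul_cancel_right]⟩
    obtain ⟨c, hc, h6, h7⟩ := h5 v hv h3
    have h8 : c ≠ 1 := by
      rintro rfl
      refine h4 ?_
      rw [← mul_one (g.1 v), ← h7, ← mul_assoc, ← map_mul, Units.mul_inv, map_one, one_mul]
    have h9 : ∑ y, g.1 ((s y)⁻¹ : Aˣ) * s y = c * ∑ y, g.1 ((s y)⁻¹ : Aˣ) * s y := by
      rw [Finset.mul_sum]
      refine (Fintype.sum_equiv (Equiv.mulRight (⟨_, h3⟩ : Y)) _ _ fun y => ?_).symm
      obtain ⟨z, hz, e⟩ := cj_eq_iff.1 ((hs' (y * ⟨_, h3⟩)).trans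
        (show ((y * ⟨_, h3⟩ : Y) : RingAut A) = cj A (s y * v) by rw [map_mul, hs']; rfl))
      obtain ⟨d, hd, -, h10⟩ := h5 (s y) (hs y) (by rw [hs']; exact y.2)
      rw [Equiv.coe_mulRight, e, h10, mul_inv_rev, mul_inv_rev, Units.val_mul, Units.val_mul, Units.val_mul,
        Units.val_mul, map_mul, map_mul, F.PI_le_Lin (h.le g.2) _ (inv_cen hz), cen_comm hz, mul_assoc,
        ← mul_assoc _ (z : A), cen_comm hz, mul_assoc, Units.inv_mul_cancel_left, mul_assoc, ← mul_assoc _ (s y : A),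
        h10, cen_comm hd, ← mul_assoc, cen_comm hd, mul_assoc, h7]
    rw [eq_comm, ← sub_eq_zero, ← sub_one_mul] at h9
    exact (Ext.isUnit_sub_one hA hc h6 h8).mul_right_eq_zero.1 h9
  simp only [avg_apply, smul_mul_assoc, Finset.sum_mul, map_mul, mul_assoc]
  rw [← Finset.smul_sum, Finset.sum_comm]
  simp only [← Finset.mul_sum, h1, mul_ite, mul_zero, Finset.sum_ite_eq', Finset.mem_univ, if_true]
  rw [← mul_smul_comm, hm, mul_one]
  rfl

theorem ind {P : A → Prop} (h1 : ∀ x ∈ fixR Y, ∀ u ∈ F.Iso, cj A u ∈ Y → P (x * u))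
    (h2 : ∀ a b, P a → P b → P (a + b)) (a : A) : P a := by
  have := Fintype.ofFinite Y
  obtain ⟨m, hm⟩ := exists_natinv hA h.card
  choose s hs hs' using fun y : Y => h.le y.2
  rw [← h.decomp hA hm hs hs' a]
  refine Finset.sum_induction _ P h2 ?_ fun y _ => h1 _ (avg_mem _) _ (hs y) (by rw [hs']; exact y.2)
  simpa using h1 0 (zero_mem _) 1 (one_mem _) (by rw [map_one]; exact one_mem _)

theorem card_eq : Nat.card A = Nat.card (fixR Y) ^ Nat.card Y := by
  classical
  have := Fintype.ofFinite Y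
  obtain ⟨m, hm⟩ := exists_natinv hA h.card
  choose s hs hs' using fun y : Y => h.le y.2
  rw [← Nat.card_fun]
  refine (Nat.card_congr (Equiv.ofBijective (fun f : Y → fixR Y => ∑ y, (f y : A) * s y)
    ⟨fun f f' e => ?_, fun a => ⟨fun y => ⟨_, avg_mem _⟩, h.decomp hA hm hs hs' a⟩⟩)).symm
  have h1 : ∀ (f : Y → fixR Y) (y₀ : Y), avg Y m ((∑ y, (f y : A) * s y) * ((s y₀)⁻¹ : Aˣ)) = f y₀ := by
    intro f y₀
    rw [Finset.sum_mul, map_sum, Finset.sum_eq_single y₀]
    · rw [Units.mul_inv_cancel_right, avg_fix hm (f y₀).2]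
    · intro y _ hy
      rw [mul_assoc, avg_left (f y).2, ← Units.val_mul, h.avg_lift hA m (mul_mem (hs y) (inv_mem (hs y₀))), mul_zero]
      · rw [map_mul, map_inv, hs', hs']
        exact mul_mem y.2 (inv_mem y₀.2)
      · rw [map_mul, map_inv, hs', hs']
        exact fun e => hy (Subtype.ext (mul_inv_eq_one.1 e))
    · simp
  funext y
  exact Subtype.ext (by rw [← h1, ← h1]; exact congrArg (fun a => avg Y m (a * _)) e)

theorem cen_eq : cenOf (fixR Y) = Subring.center A := by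
  refine le_antisymm (fun z hz => Subring.mem_center_iff.2 (h.ind hA (fun x hx u _ hu => ?_) fun a b ha hb => ?_))
    fun z hz => ⟨h.cen_le hz, fun y _ => cen_comm hz y⟩
  · rw [mul_assoc, ← cj_mul_eq, hz.1 _ hu, ← mul_assoc, hz.2 x hx, mul_assoc]
  · rw [add_mul, mul_add, ha, hb]

theorem ss : SS (Blk.ofSubring (fixR Y) (star_fixR h.le_SAut)).T :=
  ss_fix hA h.le_SAut h.card fun _ he => hA.idem_symm (h.cen_eq hA ▸ he)

/-- the list for the fixed ring -/
theorem solv {n : ℕ} (hn : Nat.card A = Nat.card (Subring.center A) ^ (n ^ 2)) {U : Subgroup Aˣ}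
    (hU : Group.IsSolvable U) (hle : ∀ u ∈ F.Iso, (u : A) ∈ fixR Y → u ∈ U) :
    ∃ k, n ^ 2 = k ^ 2 * Nat.card Y ∧ Nat.card (fixR Y) = Nat.card (Subring.center A) ^ (k ^ 2) ∧
      Cs k (Nat.card (Subring.center A)) (∃ z ∈ Subring.center A, star z ≠ z)
      (F.L ≠ Lmax A ∨ ∃ x ∈ fixR Y, x + star x ∉ Subring.center A) := by
  obtain ⟨l, h1, h2, h3⟩ := exists_l hA h.le_Aut h.card
  obtain ⟨k, h4, h5⟩ := solv_sub F (h.ss hA) h1 h2 h3 hU hle
  rw [h.cen_eq hA] at h4 h5
  refine ⟨k, ?_, h4, h5⟩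
  have := hA.nontrivial
  have h6 := h.card_eq hA
  rw [hn, h4, ← pow_mul] at h6
  exact Nat.pow_right_injective Finite.one_lt_card h6

end ND

end Cfsg.Agent.SB.C2
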