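import Cfsg.Agent.SB.C2.ExtA

/-!
# Subfields of endomorphism rings (helper56)
-/

set_option autoImplicit false

namespace Cfsg.Agent.SB.C2

open Cfsg Cfsg.Agent.DS.Cl Module

theorem card_fix {E : Type} [Field E] [Finite E] {Q t : ℕ} (hc : Nat.card E = Q ^ t) (hQ : 2 ≤ Q) :
    Nat.card {x : E // x ^ Q = x} = Q := by
  classical
  have h1 : Nat.card (powMonoidHom (Q - 1) : Eˣ →* Eˣ).ker = Q - 1 := by
    rw [IsCyclic.card_powMonoidHom_ker, Nat.card_units, hc]
    exact Nat.gcd_eq_right (by simpa using Nat.sub_dvd_pow_sub_pow Q 1 t)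
  have h2 : Q = Q - 1 + 1 := by omega
  refine Eq.trans ?_ (Finite.card_option.trans (by rw [h1, ← h2]))
  refine (Nat.card_congr (Equiv.ofBijective (fun o : Option (powMonoidHom (Q - 1) : Eˣ →* Eˣ).ker =>
    o.elim ⟨0, zero_pow (by omega)⟩ fun u => ⟨u.1, by
      have h3 : u.1 ^ (Q - 1) = 1 := u.2
      rw [← pow_sub_one_mul (by omega), ← Units.val_pow_eq_pow_val, h3, Units.val_one, one_mul]⟩) ⟨?_, fun x => ?_⟩)).symm
  · rintro (_ | u) (_ | v) e
    · rfl
    · exact absurd (congrArg Subtype.val e).symm v.1.ne_zero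
    · exact absurd (congrArg Subtype.val e) u.1.ne_zero
    · exact congrArg some (Subtype.ext (Units.ext (congrArg Subtype.val e)))
  · by_cases h0 : x.1 = 0
    · exact ⟨none, Subtype.ext h0.symm⟩
    · refine ⟨some ⟨Units.mk0 _ h0, Units.ext (mul_right_cancel₀ h0 ?_)⟩, rfl⟩
      rw [powMonoidHom_apply, Units.val_pow_eq_pow_val, Units.val_mk0, ← pow_succ, ← h2, x.2, Units.val_one, one_mul]

variable {A : Type} [Ring A]

/-- a subfield -/
structure IsF (W : Subring A) : Prop where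
  comm : ∀ x ∈ W, ∀ y ∈ W, x * y = y * x
  inv : ∀ x ∈ W, x ≠ 0 → ∃ y ∈ W, x * y = 1

theorem IsF.isField [Nontrivial A] {W : Subring A} (h : IsF W) : IsField W :=
  ⟨exists_pair_ne W, fun x y => Subtype.ext (h.comm _ x.2 _ y.2), fun {x} hx => by
    obtain ⟨y, hy, e⟩ := h.inv x x.2 fun e => hx (Subtype.ext e)
    exact ⟨⟨y, hy⟩, Subtype.ext e⟩⟩

theorem IsF.isUnit {W : Subring A} (h : IsF W) {x : A} (hx : x ∈ W) (h0 : x ≠ 0) : IsUnit x := by
  obtain ⟨y, hy, e⟩ := h.inv x hx h0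
  exact ⟨⟨x, y, e, (h.comm y hy x hx).trans e⟩, rfl⟩

theorem IsF.sub [Finite A] [Nontrivial A] {Z : Subring A} (h : IsF Z) {Q t : ℕ} (ht : t ≠ 0) (hQ : 2 ≤ Q)
    (hc : Nat.card Z = Q ^ t) : ∃ W : Subring A, (∀ x, x ∈ W ↔ x ∈ Z ∧ x ^ Q = x) ∧ IsF W ∧ Nat.card W = Q := by
  let := h.isField.toField
  have := Fintype.ofFinite Z
  obtain ⟨p, _, n, hp, h1⟩ := FiniteField.card' Z
  have : Fact p.Prime := ⟨hp⟩
  rw [← Nat.card_eq_fintype_card, hc] at h1
  obtain ⟨i, -, rfl⟩ := (Nat.dvd_prime_pow hp).1 (h1 ▸ dvd_pow_self Q ht : Q ∣ p ^ (n : ℕ))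
  let W := RingHom.eqLocus (iterateFrobenius Z p i) (RingHom.id Z)
  have h2 : ∀ x, x ∈ W.map Z.subtype ↔ x ∈ Z ∧ x ^ p ^ i = x := fun x =>
    ⟨by rintro ⟨y, hy, rfl⟩; exact ⟨y.2, congrArg Subtype.val hy⟩, fun hx => ⟨⟨x, hx.1⟩, Subtype.ext hx.2, rfl⟩⟩
  refine ⟨W.map Z.subtype, h2, ⟨fun x hx y hy => h.comm x ((h2 x).1 hx).1 y ((h2 y).1 hy).1, fun x hx h0 => ?_⟩, ?_⟩
  · obtain ⟨h3, h4⟩ := (h2 x).1 hx
    obtain ⟨y, hy, e⟩ := h.inv x h3 h0
    refine ⟨y, (h2 y).2 ⟨hy, (h.isUnit h3 h0).mul_left_cancel ?_⟩, e⟩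
    nth_rw 1 [← h4]
    rw [← Commute.mul_pow (h.comm x h3 y hy), e, one_pow]
  · refine Eq.trans ?_ (card_fix hc hQ)
    exact (Nat.card_congr (Equiv.ofBijective (fun x : {x : Z // x ^ p ^ i = x} => (⟨x.1, (h2 _).2 ⟨x.1.2, congrArg Subtype.val x.2⟩⟩ :
      W.map Z.subtype))
      ⟨fun x y e => Subtype.ext (Subtype.ext (Subtype.mk.inj e)), fun x =>
        ⟨⟨⟨x.1, ((h2 _).1 x.2).1⟩, Subtype.ext ((h2 _).1 x.2).2⟩, rfl⟩⟩)).symm

theorem ss_of_simple [StarRing A] {B : Subring A} (hs : ∀ x ∈ B, star x ∈ B) (h : IsSimpleRing B) :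
    SS (Blk.ofSubring B hs).T := by
  let e : B ≃+* (Blk.ofSubring B hs).T := ⟨Equiv.refl _, fun _ _ => rfl, fun _ _ => rfl⟩
  obtain ⟨h1, h2⟩ := isSimpleRing_iff_isTwoSided_imp.1 (IsSimpleRing.of_ringEquiv e h)
  exact ⟨h1, fun I h3 _ => h2 I ⟨fun b ha => h3 _ ha b⟩⟩

variable {K V : Type} [Field K] [AddCommGroup V] [Module K V] [Finite V] [Nontrivial V] (e : A ≃+* End K V)
include e

/-- **The centralizer of a subfield.** -/
theorem IsF.cent {W : Subring A} (h : IsF W) (h1 : Subring.center A ≤ W) :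
    ∃ m, Nat.card V = Nat.card W ^ m ∧ Nat.card (Subring.centralizer (W : Set A)) = Nat.card W ^ (m ^ 2) ∧
      IsSimpleRing (Subring.centralizer (W : Set A)) ∧ cenOf (Subring.centralizer (W : Set A)) = W ∧
      ∀ y ∈ Subring.centralizer (W : Set A), (∀ v, ∃ w ∈ W, e y v = e w v) → y ∈ W := by
  have : Nontrivial A := e.toEquiv.nontrivial
  have : Finite (End K V) := Finite.of_injective (fun a : End K V => (a : V → V)) DFunLike.coe_injective
  have : Finite A := Finite.of_equiv _ e.toEquiv.symm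
  let := h.isField.toField
  let : Module W V := Module.compHom V (e.toRingHom.comp W.subtype)
  have hs : ∀ (w : W) (v : V), w • v = e w v := fun _ _ => rfl
  let f : Subring.centralizer (W : Set A) →+* End W V :=
    { toFun := fun a =>
        { toFun := e a
          map_add' := map_add _
          map_smul' := fun w v => by
            rw [hs, RingHom.id_apply, hs, ← End.mul_apply, ← End.mul_apply, ← map_mul, ← map_mul, a.2 w w.2] }
      map_one' := LinearMap.ext fun v => by simp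
      map_mul' := fun a b => LinearMap.ext fun v => by simp
      map_zero' := LinearMap.ext fun v => by simp
      map_add' := fun a b => LinearMap.ext fun v => by simp }
  have hf : Function.Bijective f := ⟨fun a b hab => Subtype.ext (e.injective (LinearMap.ext fun v =>
    LinearMap.congr_fun hab v)), fun g => by
    let g' : End K V :=
      { toFun := g
        map_add' := map_add _
        map_smul' := fun c v => by
          have h2 := g.map_smul ⟨_, h1 (P5.cen_smul e c)⟩ v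
          simpa [hs] using h2 }
    refine ⟨⟨e.symm g', fun w hw => e.injective (LinearMap.ext fun v => ?_)⟩, LinearMap.ext fun v => ?_⟩
    · rw [map_mul, map_mul, e.apply_symm_apply]
      exact (g.map_smul ⟨w, hw⟩ v).symm
    · exact LinearMap.congr_fun (e.apply_symm_apply g') v⟩
  let e' := RingEquiv.ofBijective f hf
  have h2 : ∀ (y : Subring.centralizer (W : Set A)) (c : W), e' y = c • 1 → y.1 ∈ W := fun y c hc => by
    rw [show y.1 = c from e.injective (LinearMap.ext fun v => LinearMap.congr_fun hc v)]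
    exact c.2
  have : Nonempty (Free.ChooseBasisIndex W V) := (Free.chooseBasis W V).index_nonempty
  refine ⟨finrank W V, Module.natCard_eq_pow_finrank, (Nat.card_congr e'.toEquiv).trans (card_end W V),
    IsSimpleRing.of_ringEquiv (e'.trans (algEquivMatrix (Free.chooseBasis W V)).toRingEquiv).symm inferInstance,
    le_antisymm (fun z hz => ?_) fun z hz => ⟨fun y hy => h.comm y hy z hz, fun y hy => (hy z hz).symm⟩,
    fun y hy h3 => ?_⟩
  · obtain ⟨c, hc⟩ := P5.exists_smul e' (z := ⟨z, hz.1⟩) (Subring.mem_center_iff.2 fun y => Subtype.ext (hz.2 y y.2))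
    exact h2 ⟨z, hz.1⟩ c (by rw [hc, e'.apply_symm_apply])
  · obtain ⟨c, hc⟩ := (e' ⟨y, hy⟩).exists_eq_smul_id_of_forall_notLinearIndependent fun v h4 => by
      obtain ⟨w, hw, h5⟩ := h3 v
      exact (LinearIndependent.pair_iff' (h4.ne_zero 0)).1 h4 ⟨w, hw⟩ h5.symm
    exact h2 _ c hc

/-- a subfield with a non-trivial involution has even degree -/
theorem IsF.quad [StarRing A] [Finite K] {Z : Subring A} (h : IsF Z) (h1 : Subring.center A ≤ Z)
    (hs : ∀ x ∈ Z, star x ∈ Z) (h2 : ∀ c ∈ Subring.center A, star c = c) (h3 : ∃ z ∈ Z, star z ≠ z) :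
    ∃ t, t ≠ 0 ∧ Nat.card Z = (Nat.card K ^ 2) ^ t := by
  have : Nontrivial A := e.toEquiv.nontrivial
  have : Finite (End K V) := Finite.of_injective (fun a : End K V => (a : V → V)) DFunLike.coe_injective
  have : Finite A := Finite.of_equiv _ e.toEquiv.symm
  let := h.isField.toField
  have h4 : ∀ c : K, e.symm (algebraMap K (End K V) c) ∈ Subring.center A := fun c => by
    rw [Algebra.algebraMap_eq_smul_one]
    exact P5.cen_smul e c
  let : Algebra K Z := ((e.symm.toRingHom.comp (algebraMap K (End K V))).codRestrict Z fun c => h1 (h4 c)).toAlgebra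
  let σ : Z →ₐ[K] Z :=
    { toFun := fun z => ⟨star z, hs _ z.2⟩
      map_one' := Subtype.ext (star_one A)
      map_mul' := fun x y => Subtype.ext ((star_mul x.1 y.1).trans (h.comm _ (hs _ y.2) _ (hs _ x.2)))
      map_zero' := Subtype.ext (star_zero A)
      map_add' := fun x y => Subtype.ext (star_add x.1 y.1)
      commutes' := fun c => Subtype.ext (h2 _ (h4 c)) }
  have h5 : σ.comp σ = AlgHom.id K Z := AlgHom.ext fun z => Subtype.ext (star_star z.1)
  have h6 : orderOf (AlgEquiv.ofAlgHom σ σ h5 h5) = 2 := orderOf_eq_prime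
    (AlgEquiv.ext fun z => Subtype.ext (star_star z.1)) fun e => by
      obtain ⟨z, hz, h6⟩ := h3
      exact h6 (congrArg Subtype.val (AlgEquiv.congr_fun e ⟨z, hz⟩))
  obtain ⟨t, ht⟩ : 2 ∣ finrank K Z := by
    rw [← h6, ← IsGalois.card_aut_eq_finrank]
    exact orderOf_dvd_natCard _
  refine ⟨t, fun e => (finrank_pos (R := K) (M := Z)).ne' (by rw [ht, e]), ?_⟩
  rw [← pow_mul, ← ht]
  exact Module.natCard_eq_pow_finrank

end Cfsg.Agent.SB.C2
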