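import Cfsg.Agent.SB.C2.SolvV
import Cfsg.Agent.DS.Cl.P5
import Cfsg.Agent.DS.Cl.NC
import Cfsg.Agent.DS.Cl.Inv

/-!
# The form rings with a solvable isometry group (helper56)

`solv` : the list, in terms of the degree `n`, the order `c` of the centre and the action of `star` on the centre;
`solv_sub` : the same for a star-closed subring; `nc2` : symmetric idempotents or non-commuting unitary elements.
-/

set_option autoImplicit false

namespace Cfsg.Agent.SB.C2

open Cfsg Cfsg.Agent.DS.Cl Cfsg.Agent.DS.Cl.P5 Cfsg.Agent.DS.Cl.NCTV Module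

/-- the list of solvable cases -/
def Cs (n c : ℕ) (nt o2 : Prop) : Prop :=
  n = 1 ∨ (n = 2 ∧ ((c ≤ 3 ∧ ¬ nt) ∨ ((c = 4 ∨ c = 9) ∧ nt) ∨ (¬ nt ∧ o2))) ∨
    (n = 3 ∧ ((c = 3 ∧ ¬ nt) ∨ (c = 4 ∧ nt))) ∨ (n = 4 ∧ c ≤ 3 ∧ ¬ nt)

theorem Cs.imp {n c : ℕ} {nt o2 nt' o2' : Prop} (h : Cs n c nt o2) (h1 : nt ↔ nt') (h2 : o2 → o2') :
    Cs n c nt' o2' := by
  unfold Cs at h ⊢
  rw [← h1]
  tauto

variable {A : Type} [Ring A] [StarRing A]

theorem card_end (K V : Type) [Field K] [Finite K] [AddCommGroup V] [Module K V] [Module.Finite K V] :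
    Nat.card (End K V) = Nat.card K ^ (finrank K V ^ 2) := by
  rw [Module.natCard_eq_pow_finrank (K := K), Module.finrank_linearMap, sq]

omit [StarRing A] in
theorem card_center {K V : Type} [Field K] [AddCommGroup V] [Module K V] [Nontrivial V] (e : A ≃+* End K V) :
    Nat.card (Subring.center A) = Nat.card K := by
  refine (Nat.card_congr (Equiv.ofBijective (fun c : K => (⟨_, cen_smul e c⟩ : Subring.center A)) ⟨?_, ?_⟩)).symm
  · intro c d h
    exact H277.FC.smul_one_inj (e.symm.injective (congrArg Subtype.val h))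
  · intro z
    obtain ⟨c, hc⟩ := exists_smul e z.2
    exact ⟨c, Subtype.ext hc.symm⟩

theorem end_comm {K V : Type} [Field K] [AddCommGroup V] [Module K V] {v : V} (h : ∀ z : V, ∃ t : K, z = t • v)
    (a b : End K V) : a * b = b * a := by
  ext z
  obtain ⟨t, rfl⟩ := h z
  obtain ⟨t1, h5⟩ := h (a v)
  obtain ⟨t2, h6⟩ := h (b v)
  simp only [Module.End.mul_apply, map_smul]
  rw [h6, map_smul, h5, map_smul, h6, smul_smul, smul_smul, smul_smul, smul_smul, mul_right_comm]

section form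

variable {K V : Type} [Field K] [AddCommGroup V] [Module K V] {σ : K →+* K} {b : V →ₛₗ[σ] V →ₗ[K] K}
  (hb : b.SeparatingLeft) {ε : K} (hε : ε ≠ 0) (hs : ∀ v w, σ (b v w) = ε * b w v) (e : A ≃+* End K V)
  (hadj : ∀ a v w, b (e a v) w = b v (e (star a) w))
include hb hε hs hadj

theorem exists_proj (hA : ∃ a b : A, a * b ≠ b * a) {v : V} (hv : b v v ≠ 0) :
    ∃ f : A, star f = f ∧ f * f = f ∧ f ∉ Subring.center A := by
  have hv0 : v ≠ 0 := by
    rintro rfl
    exact hv (by simp)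
  refine ⟨e.symm (rk b (b v v)⁻¹ v), ?_, ?_, fun h => ?_⟩
  · rw [star_rk hb hε hs e hadj, map_inv₀, hs, mul_inv, mul_right_comm, inv_mul_cancel₀ hε, one_mul]
  · have h1 := rk_mul b (b v v)⁻¹ (b v v)⁻¹ v 1
    rw [mul_one, End.one_apply, mul_assoc, inv_mul_cancel₀ hv, mul_one] at h1
    rw [← map_mul, h1]
  · obtain ⟨x, y, hxy⟩ := hA
    exact hxy (comm_of_rk hb e (inv_ne_zero hv) hv0 h x y)

theorem nc2_form [Nontrivial V] (hA : ∃ a b : A, a * b ≠ b * a) :
    (∃ f : A, star f = f ∧ f * f = f ∧ f ∉ Subring.center A) ∨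
      ∃ u v : A, u * star u = 1 ∧ v * star v = 1 ∧ u * v ≠ v * u := by
  by_cases h : ∃ v, b v v ≠ 0
  · obtain ⟨v, hv⟩ := h
    exact Or.inl (exists_proj hb hε hs e hadj hA hv)
  push Not at h
  obtain ⟨v, hv⟩ := exists_ne (0 : V)
  obtain ⟨w, hw⟩ : ∃ w, b v w ≠ 0 := by
    by_contra hc
    push Not at hc
    exact hv (hb v hc)
  have h1 : b w v = -b v w := by
    have h2 := NCTV.polar (b := b) (x := 1) h v w
    rw [End.one_apply, End.one_apply] at h2
    linear_combination h2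
  have h2 : σ (b v w)⁻¹ * ε = -(b v w)⁻¹ := by
    rw [map_inv₀, hs, h1]
    field_simp
  have h3 : ∀ x, (1 + e.symm (rk b (b v w)⁻¹ x)) * star (1 + e.symm (rk b (b v w)⁻¹ x)) = 1 := by
    intro x
    have h4 := rk_mul b (b v w)⁻¹ (b v w)⁻¹ x 1
    rw [mul_one, End.one_apply, h, mul_zero] at h4
    have h5 : rk b (-(b v w)⁻¹) x = -rk b (b v w)⁻¹ x := by rw [rk, rk, neg_smul]
    have h6 : rk b 0 x = 0 := by rw [rk, zero_smul]
    rw [star_add, star_one, star_rk hb hε hs e hadj, h2, h5, map_neg, ← sub_eq_add_neg, mul_sub, mul_one, add_mul,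
      one_mul, ← map_mul, h4, h6, map_zero, add_zero, add_sub_cancel_right]
  refine Or.inr ⟨_, _, h3 v, h3 w, fun h4 => ?_⟩
  have h5 := congrArg (fun z => e z w) h4
  simp only [map_mul, map_add, map_one, e.apply_symm_apply, End.mul_apply, LinearMap.add_apply, End.one_apply,
    rk_apply, h, mul_zero, zero_smul, add_zero, inv_mul_cancel₀ hw, one_smul, h1] at h5
  rw [mul_neg, inv_mul_cancel₀ hw, neg_smul, one_smul, add_right_inj, left_eq_add, neg_eq_zero] at h5
  rw [h5, map_zero] at hw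
  exact hw rfl

end form

section L

variable {K V : Type} [Field K] [AddCommGroup V] [Module K V] {π : A →+* End K V}
  (hπ : Function.Bijective fun a => (π a, π (star a)))
include hπ

theorem L_inj {a a' : A} (h1 : π a = π a') (h2 : π (star a) = π (star a')) : a = a' := hπ.1 (Prod.ext h1 h2)

theorem L_surj (x y : End K V) : ∃ a, π a = x ∧ π (star a) = y := by
  obtain ⟨a, ha⟩ := hπ.2 (x, y)
  exact ⟨a, congrArg Prod.fst ha, congrArg Prod.snd ha⟩

theorem L_cen {a : A} {c d : K} (h1 : π a = c • 1) (h2 : π (star a) = d • 1) : a ∈ Subring.center A :=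
  Subring.mem_center_iff.2 fun x => L_inj hπ (by simp [h1]) (by simp [h2])

theorem L_scal [Nontrivial V] {z : A} (hz : z ∈ Subring.center A) : ∃ c : K, π z = c • 1 := by
  refine exists_smul (RingEquiv.refl (End K V)) (Subring.mem_center_iff.2 fun x => ?_)
  obtain ⟨a, rfl, -⟩ := L_surj hπ x 0
  rw [← map_mul, ← map_mul, cen_comm hz]

theorem L_card_center [Nontrivial V] : Nat.card (Subring.center A) = Nat.card K ^ 2 := by
  choose g h1 h2 using fun x : K × K => L_surj hπ (x.1 • 1) (x.2 • 1)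
  rw [sq, ← Nat.card_prod]
  refine (Nat.card_congr (Equiv.ofBijective (fun x => (⟨g x, L_cen hπ (h1 x) (h2 x)⟩ : Subring.center A))
    ⟨fun x y h => ?_, fun z => ?_⟩)).symm
  · have h3 : g x = g y := congrArg Subtype.val h
    refine Prod.ext (H277.FC.smul_one_inj (V := V) ?_) (H277.FC.smul_one_inj (V := V) ?_)
    · rw [← h1, ← h1, h3]
    · rw [← h2, ← h2, h3]
  · obtain ⟨c, hc⟩ := L_scal hπ z.2
    obtain ⟨d, hd⟩ := L_scal hπ (star_cen z.2)
    exact ⟨(c, d), Subtype.ext (L_inj hπ ((h1 _).trans hc.symm) ((h2 _).trans hd.symm))⟩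

theorem L_card : Nat.card A = Nat.card (End K V) ^ 2 := by
  rw [sq, ← Nat.card_prod]
  exact Nat.card_congr (Equiv.ofBijective _ hπ)

theorem L_eps : ∃ ε : A, Eps ε ∧ π ε = 1 ∧ π (star ε) = 0 := by
  obtain ⟨ε, h1, h2⟩ := L_surj hπ 1 0
  refine ⟨ε, ⟨Subring.mem_center_iff.2 fun a => L_inj hπ ?_ ?_, L_inj hπ ?_ ?_, L_inj hπ ?_ ?_⟩, h1, h2⟩ <;>
    simp [h1, h2]

end L

/-- symmetric idempotents or non-commuting unitary elements -/
theorem nc2 [Finite A] (h : SS A) (hA : ∃ a b : A, a * b ≠ b * a) :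
    (∃ f : A, star f = f ∧ f * f = f ∧ f ∉ Subring.center A) ∨
      ∃ u v : A, u * star u = 1 ∧ v * star v = 1 ∧ u * v ≠ v * u := by
  rcases exists_model h with ⟨K, _, _, n, π, hn, hπ⟩ | ⟨K, _, _, n, e, σ, b, hn, -, -, hs, hb, hadj⟩ |
    ⟨K, _, _, n, e, b, hn, hs, hb, hadj⟩
  · have : Nonempty (Fin n) := ⟨⟨0, hn⟩⟩
    obtain ⟨v, hv⟩ := exists_ne (0 : Fin n → K)
    obtain ⟨φ, hφ⟩ := Module.Projective.exists_dual_eq_one K hv
    obtain ⟨f, h1, h2⟩ := L_surj hπ (φ.smulRight v) (φ.smulRight v)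
    have h3 : star f = f := L_inj hπ (h2.trans h1.symm) (by rw [star_star, h1, h2])
    have h4 : π (f * f) = π f := by
      rw [map_mul, h1]
      refine LinearMap.ext fun x => ?_
      rw [End.mul_apply, LinearMap.smulRight_apply, LinearMap.smulRight_apply, map_smul, hφ, smul_eq_mul, mul_one]
    refine Or.inl ⟨f, h3, L_inj hπ h4 (by rw [star_mul, h3, h4]), fun h5 => ?_⟩
    obtain ⟨c, hc⟩ := L_scal hπ h5
    have h6 : ∀ z, φ z • v = c • z := fun z => LinearMap.congr_fun (h1.symm.trans hc) z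
    have h7 : c = 1 := by
      have h8 := h6 v
      rw [hφ] at h8
      exact (smul_left_injective K hv h8).symm
    have h8 := end_comm (K := K) (v := v) fun z => ⟨φ z, by rw [h6, h7, one_smul]⟩
    obtain ⟨x, y, hxy⟩ := hA
    exact hxy (L_inj hπ (by rw [map_mul, map_mul, h8]) (by rw [star_mul, star_mul, map_mul, map_mul, h8]))
  · have : Nonempty (Fin n) := ⟨⟨0, hn⟩⟩
    exact nc2_form hb one_ne_zero (fun v w => by rw [one_mul, hs.eq]) e hadj hA
  · have : Nonempty (Fin n) := ⟨⟨0, hn⟩⟩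
    rcases hs with hs | hs
    · exact nc2_form (σ := RingHom.id K) hb one_ne_zero (fun v w => by rw [one_mul, hs]; rfl) e hadj hA
    · exact nc2_form (σ := RingHom.id K) hb (neg_ne_zero.2 one_ne_zero) (fun v w => by rw [hs w v]; simp) e hadj hA

variable [Finite A]

/-- the statement of the list for a form ring -/
def SolvL (F : FR A) : Prop :=
  ∃ n, Nat.card A = Nat.card (Subring.center A) ^ (n ^ 2) ∧ Cs n (Nat.card (Subring.center A))
    (∃ z ∈ Subring.center A, star z ≠ z) (F.L ≠ Lmax A ∨ ∃ x, x + star x ∉ Subring.center A)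

theorem solv_L (F : FR A) (hM : ModL A) (hs : Group.IsSolvable F.Iso) : SolvL F := by
  obtain ⟨K, _, _, n, π, hn, hπ⟩ := hM
  have : Nonempty (Fin n) := ⟨⟨0, hn⟩⟩
  obtain ⟨ε, hE, h1, h2⟩ := L_eps hπ
  have hL := F.L_eq hE.cen hE.add
  let f : F.Iso →* (End K (Fin n → K))ˣ := (Units.map (π : A →* End K (Fin n → K))).comp F.Iso.subtype
  have hf : Function.Surjective f := by
    intro x
    obtain ⟨u, h3, h4⟩ := L_surj hπ (x : End K (Fin n → K)) (x⁻¹ : (End K (Fin n → K))ˣ)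
    have h5 : u * star u = 1 := L_inj hπ (by simp [h3, h4]) (by simp [h3, h4])
    exact ⟨⟨mkU u h5, mem_Iso_of_max hL h5⟩, Units.ext h3⟩
  have h3 := solv_lin (solv_of_equiv (LinearMap.GeneralLinearGroup.generalLinearEquiv K (Fin n → K)).symm
    (Group.isSolvable_of_surjective hf))
  rw [Module.finrank_fin_fun] at h3
  have hnt : ∃ z ∈ Subring.center A, star z ≠ z := ⟨ε, hE.cen, fun h4 => by
    rw [h4, h1] at h2
    exact one_ne_zero h2⟩
  refine ⟨n, ?_, ?_⟩
  · rw [L_card hπ, L_card_center hπ, card_end, Module.finrank_fin_fun, ← pow_mul, ← pow_mul, mul_comm]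
  · rw [L_card_center hπ, Nat.card_eq_fintype_card]
    rcases h3 with h3 | ⟨h3, h4⟩
    · exact Or.inl (by omega)
    · refine Or.inr (Or.inl ⟨h3, Or.inr (Or.inl ⟨?_, hnt⟩)⟩)
      rcases Vec.card_cases K with h5 | h5 | h5
      · exact Or.inl (by rw [h5]; rfl)
      · exact Or.inr (by rw [h5]; rfl)
      · omega

theorem solv_U (F : FR A) (hM : ModU A) (hs : Group.IsSolvable F.Iso) : SolvL F := by
  obtain ⟨K, _, _, n, e, σ, b, hn, hσ, hσ2, hb, hsp, hadj⟩ := hM
  have : Nonempty (Fin n) := ⟨⟨0, hn⟩⟩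
  have hr : ∀ x, (∀ v, b v x = 0) → x = 0 := fun x hx => hsp x fun v => by rw [← hb.eq, hx, map_zero]
  have hst := star_smul_one hr hadj
  have hL : F.L = Lmax A := by
    obtain ⟨c, hc⟩ := ClassicalGeometry.InvolutiveNorm.exists_add_sigma_eq hσ hσ2 (map_one σ)
    refine F.L_eq (cen_smul e c) ?_
    rw [hst, ← map_add, ← add_smul, hc, one_smul, map_one]
  obtain ⟨φ⟩ := equiv_of e (U := F.Iso) (X := Vec.Isom K fun v w => b v w) fun u =>
    ⟨fun hu => (unitary_iff hr hadj u).1 hu.1, fun hu => mem_Iso_of_max hL ((unitary_iff hr hadj u).2 hu)⟩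
  have h3 := solv_herm hσ hσ2 b hb hsp (solv_of_equiv φ hs)
  rw [Module.finrank_fin_fun] at h3
  have hnt : ∃ z ∈ Subring.center A, star z ≠ z := by
    obtain ⟨y, hy⟩ := ClassicalGeometry.InvolutiveNorm.exists_sigma_ne hσ
    exact ⟨_, cen_smul e y, fun h4 => hy (H277.FC.smul_one_inj (e.symm.injective ((hst y).symm.trans h4)))⟩
  refine ⟨n, ?_, ?_⟩
  · rw [Nat.card_congr e.toEquiv, card_center e, card_end, Module.finrank_fin_fun]
  · rw [card_center e, Nat.card_eq_fintype_card]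
    rcases h3 with h3 | ⟨h3, h4⟩ | ⟨h3, h4⟩
    · exact Or.inl (by omega)
    · exact Or.inr (Or.inl ⟨h3, Or.inr (Or.inl ⟨h4, hnt⟩)⟩)
    · exact Or.inr (Or.inr (Or.inl ⟨h3, Or.inr ⟨h4, hnt⟩⟩))

omit [Finite A] in
theorem iso_O {K V : Type} [Field K] [AddCommGroup V] [Module K V] [FiniteDimensional K V] [Finite A]
    {b : LinearMap.BilinForm K V} {e : A ≃+* End K V} (hs : b.SeparatingLeft) (hb : ∀ v w, b w v = b v w)
    (hadj : ∀ a v w, b (e a v) w = b v (e (star a) w)) (F : FR A) (hL : F.L = Lmin A) :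
    ∃ Q : QuadraticForm K V, LieClassical.OrthCore.Nondeg Q ∧ Nonempty (LieClassical.OrthCore.O Q ≃* F.Iso) := by
  have hr : ∀ x, (∀ v, b v x = 0) → x = 0 := fun x hx => hs x fun v => by rw [hb, hx]
  let Q : QuadraticForm K V := LinearMap.BilinMap.toQuadraticMap (b.compl₂ (e F.l))
  have hQ : ∀ v, Q v = b v (e F.l v) := fun _ => rfl
  have hpol : ∀ v w, QuadraticMap.polar Q v w = b v w := by
    intro v w
    rw [LinearMap.BilinMap.polar_toQuadraticMap, LinearMap.compl₂_apply, LinearMap.compl₂_apply, hb (e F.l v), hadj,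
      ← map_add, ← LinearMap.add_apply, ← map_add, F.l_add, map_one, End.one_apply]
  have hmin : ∀ x, x ∈ Lmin A ↔ ∀ v, b v (e x v) = 0 := by
    intro x
    constructor
    · rintro ⟨a, rfl⟩ v
      rw [map_sub, LinearMap.sub_apply, map_sub, ← hadj, hb, sub_self]
    · intro hx
      obtain ⟨β, hβ⟩ := Fwd.exists_half (b.compl₂ (e x)) hx
      have hnd : b.Nondegenerate := ⟨hs, hr⟩
      obtain ⟨a, ha⟩ := e.surjective ((b.toDual hnd).symm.toLinearMap.comp β.flip)
      have ha' : ∀ v w, b (e a w) v = β v w := fun v w => by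
        rw [ha]
        exact LinearMap.BilinForm.apply_toDual_symm_apply (hB := hnd) (β.flip w) v
      refine ⟨a, e.injective (LinearMap.ext fun w => ?_)⟩
      rw [← sub_eq_zero]
      refine hr _ fun v => ?_
      rw [map_sub, map_sub, LinearMap.sub_apply, map_sub, ← hadj, ha', hb (e a w), ha', hβ, LinearMap.compl₂_apply,
        sub_self]
  have hQu : ∀ (u : A) v, b v (e (u * F.l * star u - F.l) v) = Q (e (star u) v) - Q v := by
    intro u v
    rw [hQ, hQ, hadj, star_star, map_sub, LinearMap.sub_apply, map_sub, map_mul, map_mul]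
    rfl
  refine ⟨Q, fun x hx => hs x fun y => by rw [← hpol, hx], equiv_of e fun u => ?_⟩
  rw [LieClassical.OrthCore.mem_O]
  constructor
  · intro hu v
    have h1 := hu.2
    rw [hL, hmin] at h1
    have h2 := h1 (e u v)
    rw [hQu, ← End.mul_apply, ← map_mul, FR.Iso.sm hu, map_one, End.one_apply, sub_eq_zero] at h2
    exact h2.symm
  · intro hu
    have h1 : (u : A) * star (u : A) = 1 := (unitary_iff hr hadj u).2 fun v w =>
      (hpol _ _).symm.trans ((LieClassical.OrthCore.polar_map hu v w).trans (hpol v w))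
    refine ⟨h1, ?_⟩
    rw [hL, hmin]
    intro v
    rw [hQu, ← hu, toLE_apply, ← End.mul_apply, ← map_mul, h1, map_one, End.one_apply, sub_self]

theorem solv_B (F : FR A) (hM : ModB A) (hsv : Group.IsSolvable F.Iso) : SolvL F := by
  obtain ⟨K, _, _, n, e, b, hn, hb, hs, hadj⟩ := hM
  have : Nonempty (Fin n) := ⟨⟨0, hn⟩⟩
  have hr : ∀ x, (∀ v, b v x = 0) → x = 0 := fun x hx => hs x fun v => by
    rcases hb with hb | hb
    · rw [hb, hx]
    · rw [hb, hx, neg_zero]
  have hst := star_smul_one hr hadj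
  have hnt : ¬ ∃ z ∈ Subring.center A, star z ≠ z := by
    rintro ⟨z, hz, h1⟩
    obtain ⟨c, rfl⟩ := exists_smul e hz
    exact h1 (hst c)
  refine ⟨n, by rw [Nat.card_congr e.toEquiv, card_center e, card_end, Module.finrank_fin_fun], ?_⟩
  rw [card_center e, Nat.card_eq_fintype_card]
  have hS : F.L = Lmax A → b.IsAlt → ∀ o2, Cs n (Fintype.card K) (∃ z ∈ Subring.center A, star z ≠ z) o2 := by
    intro hL ha o2
    obtain ⟨φ⟩ := equiv_of e (U := F.Iso) (X := Vec.Isom K fun v w => b v w) fun u =>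
      ⟨fun hu => (unitary_iff hr hadj u).1 hu.1, fun hu => mem_Iso_of_max hL ((unitary_iff hr hadj u).2 hu)⟩
    have h1 := solv_alt b ha hs (solv_of_equiv φ hsv)
    rw [Module.finrank_fin_fun] at h1
    rcases h1 with h1 | ⟨h1, h2⟩
    · omega
    · exact Or.inr (Or.inl ⟨h1, Or.inl ⟨h2, hnt⟩⟩)
  have hO : F.L = Lmin A → (∀ v w, b w v = b v w) → ∀ o2 : Prop, (n = 2 → o2) →
      Cs n (Fintype.card K) (∃ z ∈ Subring.center A, star z ≠ z) o2 := by
    intro hL hb o2 ho
    obtain ⟨Q, hQ, ⟨φ⟩⟩ := iso_O hs hb hadj F hL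
    have h1 := solv_O Q hQ (solv_of_equiv φ hsv)
    rw [Module.finrank_fin_fun] at h1
    rcases h1 with h1 | ⟨h1, h2⟩ | ⟨h1, h2, -⟩
    · by_cases h2 : n = 2
      · exact Or.inr (Or.inl ⟨h2, Or.inr (Or.inr ⟨hnt, ho h2⟩)⟩)
      · exact Or.inl (by omega)
    · exact Or.inr (Or.inr (Or.inl ⟨h1, Or.inl ⟨h2, hnt⟩⟩))
    · exact Or.inr (Or.inr (Or.inr ⟨h1, h2, hnt⟩))
  by_cases h2 : (2 : K) = 0
  · have hb' : ∀ v w, b w v = b v w := by
      rcases hb with hb | hb
      · exact hb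
      · intro v w
        linear_combination hb v w - b v w * h2
    by_cases hL : F.L = Lmax A
    · refine hS hL (fun v => ?_) _
      have h3 : b v v = b v (e (F.l + star F.l) v) := by rw [F.l_add, map_one, End.one_apply]
      rw [map_add, LinearMap.add_apply, map_add, ← hadj, hb' (e F.l v)] at h3
      linear_combination h3 + b (e F.l v) v * h2
    · exact hO (F.par.resolve_right hL) hb' _ fun _ => Or.inl hL
  · have h3 : e.symm ((2 : K)⁻¹ • 1) + star (e.symm ((2 : K)⁻¹ • 1)) = 1 := by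
      rw [hst, RingHom.id_apply, ← map_add, ← add_smul, ← two_mul, mul_inv_cancel₀ h2, one_smul, map_one]
    have hL := F.L_eq (cen_smul e _) h3
    by_cases ha : b.IsAlt
    · exact hS hL ha _
    obtain ⟨v, hv⟩ : ∃ v, b v v ≠ 0 := not_forall.1 ha
    have hb' : ∀ v w, b w v = b v w := by
      refine hb.resolve_right fun hb => hv ?_
      have h4 : 2 * b v v = 0 := by linear_combination hb v v
      exact (mul_eq_zero.1 h4).resolve_left h2
    refine hO (hL.trans (Lmin_eq_Lmax (cen_smul e _) h3).symm) hb' _ fun h4 => Or.inr ?_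
    subst h4
    obtain ⟨f, h5, -, h6⟩ := exists_proj (σ := RingHom.id K) hs one_ne_zero (fun v w => by rw [one_mul, hb']; rfl)
      e hadj ⟨e.symm (Matrix.toLin' (Matrix.single 0 1 1)), e.symm (Matrix.toLin' (Matrix.single 1 0 1)), fun h7 => by
        rw [← map_mul e.symm, ← map_mul e.symm] at h7
        have h8 := congrFun (LinearMap.congr_fun (e.symm.injective h7) (Pi.single 0 1)) 0
        simp [Matrix.single, Matrix.mulVec, dotProduct] at h8⟩ hv
    refine ⟨f, fun h7 => h6 ?_⟩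
    have h8 := Subring.mul_mem _ (cen_smul e (2 : K)⁻¹) h7
    rwa [h5, mul_add, ← add_mul, show e.symm ((2 : K)⁻¹ • 1) + e.symm ((2 : K)⁻¹ • 1) = 1 from by
      rw [← h3, hst]; rfl, one_mul] at h8

/-- **The solvable isometry groups.** -/
theorem solv (h : SS A) (F : FR A) (hs : Group.IsSolvable F.Iso) : SolvL F := by
  rcases exists_model h with hM | hM | hM
  · exact solv_L F hM hs
  · exact solv_U F hM hs
  · exact solv_B F hM hs

/-- the list for a star-closed subring -/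
theorem solv_sub (F : FR A) {B : Subring A} {hs : ∀ x ∈ B, star x ∈ B} (hB : SS (Blk.ofSubring B hs).T) {l : A}
    (hl : l ∈ B) (h1 : l + star l = 1) (h2 : l - F.l ∈ F.L) {U : Subgroup Aˣ} (hU : Group.IsSolvable U)
    (hle : ∀ u ∈ F.Iso, (u : A) ∈ B → u ∈ U) :
    ∃ n, Nat.card B = Nat.card (cenOf B) ^ (n ^ 2) ∧ Cs n (Nat.card (cenOf B))
      (∃ z ∈ cenOf B, star z ≠ z) (F.L ≠ Lmax A ∨ ∃ x ∈ B, x + star x ∉ cenOf B) := by
  classical
  let R := (Blk.ofSubring B hs).T
  let v := (Blk.ofSubring B hs).val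
  let F' : FR R := ⟨⟨l, hl⟩, if F.L = Lmax A then Lmax R else Lmin R, Subtype.ext h1, by split_ifs <;> simp⟩
  have hL : ∀ x ∈ F'.L, v x ∈ F.L := by
    intro x hx
    by_cases h3 : F.L = Lmax A
    · rw [h3]
      exact congrArg v (F'.star_eq_neg hx)
    · have h4 : x ∈ Lmin R := by simpa only [F', if_neg h3] using hx
      obtain ⟨a, rfl⟩ := h4
      exact F.sub_star_mem (v a)
  let v' : R →* A := ⟨⟨v, rfl⟩, fun _ _ => rfl⟩
  have h3 : ∀ u : F'.Iso, Units.map v' u ∈ U := by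
    intro u
    refine hle _ ⟨congrArg v u.2.1, ?_⟩ (u.1 : R).2
    have h4 : (Units.map v' u : A) * l * star (Units.map v' u : A) - l ∈ F.L := hL _ u.2.2
    have h5 := F.L.add_mem (F.L.sub_mem h4 (F.conj_mem h2 (Units.map v' u : A))) h2
    convert h5 using 1
    noncomm_ring
  have h4 : Group.IsSolvable F'.Iso := Group.isSolvable_of_isSolvable_injective
    (f := ((Units.map v').comp F'.Iso.subtype).codRestrict U h3) fun a b e =>
      Subtype.ext (Units.ext (Subtype.ext (congrArg Units.val (congrArg Subtype.val e))))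
  obtain ⟨n, h5, h6⟩ := solv hB F' h4
  have hc : ∀ x : R, x ∈ Subring.center R ↔ v x ∈ cenOf B := fun x =>
    (Blk.mem_center_iff _).trans ⟨fun h => ⟨x.2, h⟩, fun h => h.2⟩
  have h7 : Nat.card (Subring.center R) = Nat.card (cenOf B) :=
    Nat.card_congr (Equiv.ofBijective (fun z => ⟨v z.1, (hc _).1 z.2⟩) ⟨fun a b e =>
      Subtype.ext (Subtype.ext (congrArg (fun z : cenOf B => (z : A)) e)), fun z => ⟨⟨⟨z.1, z.2.1⟩, (hc _).2 z.2⟩, rfl⟩⟩)
  rw [h7] at h5 h6
  refine ⟨n, h5, h6.imp ⟨?_, ?_⟩ ?_⟩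
  · rintro ⟨z, hz, h8⟩
    exact ⟨v z, (hc _).1 hz, fun e => h8 (Subtype.ext e)⟩
  · rintro ⟨z, hz, h8⟩
    exact ⟨⟨z, hz.1⟩, (hc _).2 hz, fun e => h8 (congrArg v e)⟩
  · rintro (h8 | ⟨x, hx⟩)
    · exact Or.inl fun e => h8 (if_pos e)
    · exact Or.inr ⟨v x, x.2, fun e => hx ((hc _).2 e)⟩

end Cfsg.Agent.SB.C2
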